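import Mathlib.Topology.Sober
import Mathlib.Topology.NoetherianSpace
import Mathlib.Topology.KrullDimension
import Mathlib.Topology.Spectral.Prespectral
import Mathlib.Topology.QuasiSeparated
import Mathlib.Topology.Connected.Clopen
import Mathlib.Topology.LocallyClosed
import Mathlib.SetTheory.Cardinal.Basic
import Mathlib.Data.Set.Card

/-!
# Elementary point-set topology
-/

set_option autoImplicit false
universe u

open TopologicalSpace Topology Set

namespace PtTopLib

variable {X Y : Type u} [TopologicalSpace X] [TopologicalSpace Y]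

theorem isNowhereDense_of_cover {ι : Type u} (U : ι → Set X) (hU : ∀ i, IsOpen (U i))
    (hcov : ⋃ i, U i = univ) (T : Set X) (hT : ∀ i, IsNowhereDense ((Subtype.val : U i → X) ⁻¹' T)) :
    IsNowhereDense T := by
  refine eq_empty_of_forall_notMem fun x hx => ?_
  obtain ⟨i, hxi⟩ := mem_iUnion.mp (hcov.ge (mem_univ x))
  have hsub : (Subtype.val : U i → X) ⁻¹' interior (closure T) ⊆
      interior (closure ((Subtype.val : U i → X) ⁻¹' T)) := by
    refine interior_maximal ?_ (isOpen_interior.preimage continuous_subtype_val)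
    rw [← (hU i).isOpenMap_subtype_val.preimage_closure_eq_closure_preimage continuous_subtype_val]
    exact preimage_mono interior_subset
  exact (hT i).le (hsub (show (⟨x, hxi⟩ : U i) ∈ _ from hx))

theorem exists_proper_closed [T2Space X] (f : X → X) (hf : Continuous f) (hsurj : Function.Surjective f)
    (hne : f ≠ id) : ∃ E : Set X, IsClosed E ∧ E ≠ univ ∧ E ∪ f '' E = univ := by
  obtain ⟨x, hx⟩ := Function.ne_iff.mp hne
  obtain ⟨U, V, hU, hV, hxU, hxV, hUV⟩ := t2_separation (Ne.symm hx)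
  refine ⟨(U ∩ f ⁻¹' V)ᶜ, (hU.inter (hV.preimage hf)).isClosed_compl, ?_, ?_⟩
  · rw [Ne, compl_univ_iff]
    exact Set.nonempty_iff_ne_empty.mp ⟨x, hxU, hxV⟩
  · refine eq_univ_of_forall fun y => ?_
    by_cases hy : y ∈ U ∩ f ⁻¹' V
    · obtain ⟨z, rfl⟩ := hsurj y
      exact Or.inr ⟨z, fun hz => Set.disjoint_left.mp hUV hy.1 hz.2, rfl⟩
    · exact Or.inl hy

theorem isLocallyClosed_iff_preimage (f : X → Y) (hf : Continuous f) (hc : IsClosedMap f)
    (hs : Function.Surjective f) (T : Set Y) :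
    closure T = f '' closure (f ⁻¹' T) ∧ (IsLocallyClosed T ↔ IsLocallyClosed (f ⁻¹' T)) := by
  have hcl : closure T = f '' closure (f ⁻¹' T) := by
    refine subset_antisymm (closure_minimal (fun y hy => ?_) (hc _ isClosed_closure))
      ((image_closure_subset_closure_image hf).trans (closure_mono (image_preimage_subset f T)))
    obtain ⟨x, rfl⟩ := hs y
    exact ⟨x, subset_closure hy, rfl⟩
  refine ⟨hcl, fun h => h.preimage hf, fun h => ?_⟩
  rw [isLocallyClosed_iff_isOpen_coborder, coborder, isOpen_compl_iff] at h ⊢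
  have e : closure T \ T = f '' (closure (f ⁻¹' T) \ f ⁻¹' T) := by
    rw [image_sdiff_preimage, ← hcl]
  rw [e]
  exact hc _ h

theorem irreducibleComponents_eq_range {n : ℕ} (Z : Fin n → Set X) (hZ : ∀ i, IsIrreducible (Z i) ∧ IsClosed (Z i))
    (hcov : ⋃ i, Z i = univ) (hirr : ∀ i, ¬ Z i ⊆ ⋃ j ∈ ({i}ᶜ : Set (Fin n)), Z j) :
    irreducibleComponents X = range Z := by
  classical
  have key : ∀ W : Set X, IsIrreducible W → ∃ i, W ⊆ Z i := by
    intro W hW
    obtain ⟨A, hA, hWA⟩ := isIrreducible_iff_sUnion_isClosed.mp hW (Finset.univ.image Z)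
      (fun A hA => by obtain ⟨i, -, rfl⟩ := Finset.mem_image.mp hA; exact (hZ i).2)
      (by simp [Set.sUnion_range, hcov])
    obtain ⟨i, -, rfl⟩ := Finset.mem_image.mp hA
    exact ⟨i, hWA⟩
  refine Set.ext fun W => ⟨fun hW => ?_, ?_⟩
  · obtain ⟨i, hi⟩ := key W hW.1
    exact ⟨i, (hW.eq_of_subset (hZ i).1 hi).symm⟩
  · rintro ⟨i, rfl⟩
    refine ⟨(hZ i).1, fun W hW hle => ?_⟩
    obtain ⟨j, hj⟩ := key W hW
    by_cases hij : j = i
    · exact hij ▸ hj
    · exact absurd ((hle.trans hj).trans (Set.subset_biUnion_of_mem (u := Z) (by simpa using hij))) (hirr i)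

theorem ncard_irreducibleComponents_le (f : X → Y) (hf : Continuous f) (hs : Function.Surjective f)
    (hfin : (irreducibleComponents X).Finite) :
    (irreducibleComponents Y).Finite ∧
      (irreducibleComponents Y).ncard ≤ (irreducibleComponents X).ncard := by
  classical
  have hsub : irreducibleComponents Y ⊆ (fun Z => closure (f '' Z)) '' irreducibleComponents X := by
    intro W hW
    obtain ⟨A, hA, hWA⟩ := isIrreducible_iff_sUnion_isClosed.mp hW.1
      (hfin.toFinset.image fun Z => closure (f '' Z))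
      (fun A hA => by obtain ⟨Z, -, rfl⟩ := Finset.mem_image.mp hA; exact isClosed_closure)
      (fun y _ => by
        obtain ⟨x, rfl⟩ := hs y
        refine mem_sUnion.mpr ⟨closure (f '' irreducibleComponent x), ?_,
          subset_closure ⟨x, mem_irreducibleComponent, rfl⟩⟩
        exact Finset.mem_coe.mpr (Finset.mem_image_of_mem _
          (hfin.mem_toFinset.mpr (irreducibleComponent_mem_irreducibleComponents x))))
    obtain ⟨Z, hZ, rfl⟩ := Finset.mem_image.mp hA
    exact ⟨Z, hfin.mem_toFinset.mp hZ,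
      (hW.eq_of_subset ((hfin.mem_toFinset.mp hZ).1.image f hf.continuousOn).closure hWA).symm⟩
  exact ⟨(hfin.image _).subset hsub,
    (ncard_le_ncard hsub (hfin.image _)).trans (ncard_image_le hfin)⟩

theorem locallyNoetherian_range (f : X → Y) (hf : Continuous f) (hfo : IsOpenMap f)
    (hX : ∀ x : X, ∃ E ∈ nhds x, NoetherianSpace E) :
    ∀ y : range f, ∃ E : Set (range f), E ∈ nhds y ∧ NoetherianSpace E := by
  rintro ⟨_, x, rfl⟩
  obtain ⟨E, hE, hN⟩ := hX x
  have hr : IsOpenMap (rangeFactorization f) := hfo.codRestrict _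
  refine ⟨rangeFactorization f '' interior E,
    (hr _ isOpen_interior).mem_nhds ⟨x, mem_interior_iff_mem_nhds.mpr hE, rfl⟩, ?_⟩
  rw [noetherianSpace_set_iff]
  intro t ht
  have hcont : Continuous (rangeFactorization f) := hf.codRestrict _
  obtain ⟨s, hs, rfl⟩ := Set.subset_image_iff.mp ht
  exact ((noetherianSpace_set_iff E).mp hN s (hs.trans interior_subset)).image hcont

theorem generalizingMap_of_isOpenMap [NoetherianSpace X] [QuasiSober X] [T0Space Y] (f : X → Y)
    (hf : Continuous f) (hfo : IsOpenMap f) : GeneralizingMap f := by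
  classical
  intro x y' hy'
  obtain ⟨S, hSf, hSc, hSirr, hS⟩ :=
    NoetherianSpace.exists_finite_set_isClosed_irreducible
      (isClosed_closure.preimage hf : IsClosed (f ⁻¹' closure {y'}))
  have hS' : ∀ Z ∈ S, Z ⊆ f ⁻¹' closure {y'} := fun Z hZ => hS ▸ subset_sUnion_of_mem hZ
  let U : Set X := (⋃ Z ∈ {Z ∈ S | x ∉ Z}, Z)ᶜ
  have hU : IsOpen U :=
    ((hSf.subset (sep_subset _ _)).isClosed_biUnion fun Z hZ => hSc Z hZ.1).isOpen_compl
  have hxU : x ∈ U := by
    simp only [U, mem_compl_iff, mem_iUnion, not_exists]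
    exact fun Z hZ hxZ => hZ.2 hxZ
  obtain ⟨z, hzU, hz⟩ : y' ∈ f '' U := hy'.mem_open (hfo U hU) ⟨x, hxU, rfl⟩
  have hzT : z ∈ f ⁻¹' closure {y'} := by
    show f z ∈ closure {y'}
    rw [hz]; exact subset_closure rfl
  rw [hS] at hzT
  obtain ⟨Z, hZ, hzZ⟩ := mem_sUnion.mp hzT
  have hxZ : x ∈ Z := by
    by_contra h
    simp only [U, mem_compl_iff, mem_iUnion, not_exists] at hzU
    exact hzU Z ⟨hZ, h⟩ hzZ
  obtain ⟨ξ, hξ⟩ := QuasiSober.sober (hSirr Z hZ) (hSc Z hZ)
  refine ⟨ξ, hξ.specializes hxZ, ?_⟩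
  have h1 : f ξ ⤳ y' := hz ▸ (hξ.specializes hzZ).map hf
  have h2 : y' ⤳ f ξ := specializes_iff_mem_closure.mpr (hS' Z hZ hξ.mem)
  exact (h1.antisymm h2).eq

theorem krullDim_le_of_lift [QuasiSober Y] [T0Space Y] (f : X → Y) (hf : Continuous f)
    (hsurj : Function.Surjective f) (hlift : SpecializingMap f ∨ GeneralizingMap f) :
    topologicalKrullDim Y ≤ topologicalKrullDim X := by
  let cl : X → IrreducibleCloseds X := fun x => ⟨closure {x}, isIrreducible_singleton.closure, isClosed_closure⟩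
  have hlt : ∀ (x x' : X) (T T' : IrreducibleCloseds Y), IsGenericPoint (f x) (T : Set Y) →
      IsGenericPoint (f x') (T' : Set Y) → T < T' → x' ⤳ x → cl x < cl x' := by
    intro x x' T T' hT hT' hTT' hxx'
    refine lt_of_le_of_ne (specializes_iff_closure_subset.mp hxx') fun e => ?_
    have h1 : x ⤳ x' := specializes_iff_closure_subset.mpr (le_of_eq (congrArg SetLike.coe e.symm))
    have h2 : f x' = f x := ((hxx'.map hf).antisymm (h1.map hf)).eq
    exact hTT'.ne (IrreducibleCloseds.ext (hT.def.symm.trans (h2 ▸ hT'.def)))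
  refine iSup_le fun s => ?_
  suffices ∃ t : LTSeries (IrreducibleCloseds X), t.length = s.length by
    obtain ⟨t, ht⟩ := this
    exact le_iSup_of_le t (by rw [ht])
  rcases hlift with hsp | hgen
  · suffices ∃ t : LTSeries (IrreducibleCloseds X), t.length = s.length ∧
        ∃ x, t.head = cl x ∧ IsGenericPoint (f x) (s.head : Set Y) by
      obtain ⟨t, ht, -⟩ := this; exact ⟨t, ht⟩
    induction s using RelSeries.inductionOn with
    | singleton T =>
      obtain ⟨η, hη⟩ := QuasiSober.sober T.isIrreducible T.isClosed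
      obtain ⟨x, rfl⟩ := hsurj η
      exact ⟨RelSeries.singleton _ (cl x), rfl, x, rfl, hη⟩
    | cons p T hT ih =>
      obtain ⟨t, htl, x, hx, hgx⟩ := ih
      obtain ⟨η, hη⟩ := QuasiSober.sober T.isIrreducible T.isClosed
      have hle : T ≤ p.head := le_of_lt hT
      obtain ⟨x', hxx', rfl⟩ := hsp (hgx.specializes (hle hη.mem))
      refine ⟨t.cons (cl x') (hx ▸ hlt x' x T p.head hη hgx hT hxx'), by simp [htl], x', ?_, ?_⟩
      · exact RelSeries.head_cons _ _ _
      · rw [RelSeries.head_cons]; exact hη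
  · suffices ∃ t : LTSeries (IrreducibleCloseds X), t.length = s.length ∧
        ∃ x, t.last = cl x ∧ IsGenericPoint (f x) (s.last : Set Y) by
      obtain ⟨t, ht, -⟩ := this; exact ⟨t, ht⟩
    induction s using RelSeries.inductionOn' with
    | singleton T =>
      obtain ⟨η, hη⟩ := QuasiSober.sober T.isIrreducible T.isClosed
      obtain ⟨x, rfl⟩ := hsurj η
      exact ⟨RelSeries.singleton _ (cl x), rfl, x, rfl, hη⟩
    | snoc p T hT ih =>
      obtain ⟨t, htl, x, hx, hgx⟩ := ih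
      obtain ⟨η, hη⟩ := QuasiSober.sober T.isIrreducible T.isClosed
      have hle : p.last ≤ T := le_of_lt hT
      obtain ⟨x', hxx', rfl⟩ := hgen (hη.specializes (hle hgx.mem))
      refine ⟨t.snoc (cl x') (hx ▸ hlt x x' p.last T hgx hη hT hxx'), by simp [htl], x', ?_, ?_⟩
      · exact RelSeries.last_snoc _ _ _
      · rw [RelSeries.last_snoc]; exact hη

theorem exists_isClopen_disjoint [CompactSpace X] (x : X) {A : Set X} (hA : IsCompact A)
    (hd : Disjoint (⋂₀ {Z : Set X | IsClopen Z ∧ x ∈ Z}) A) :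
    ∃ Z, IsClopen Z ∧ x ∈ Z ∧ Disjoint Z A := by
  classical
  obtain ⟨t, ht⟩ := hA.elim_finite_subcover (fun Z : {Z : Set X // IsClopen Z ∧ x ∈ Z} => (Z.1)ᶜ)
    (fun Z => Z.2.1.1.isOpen_compl) (fun a ha => by
      by_contra h
      simp only [mem_iUnion, mem_compl_iff, not_exists, not_not] at h
      exact Set.disjoint_left.mp hd (mem_sInter.mpr fun Z hZ => h ⟨Z, hZ⟩) ha)
  refine ⟨⋂ Z ∈ t, Z.1, isClopen_biInter_finset fun Z _ => Z.2.1, mem_iInter₂.mpr fun Z _ => Z.2.2, ?_⟩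
  refine Set.disjoint_left.mpr fun a ha haA => ?_
  obtain ⟨Z, hZ, h⟩ := mem_iUnion₂.mp (ht haA)
  exact h (mem_iInter₂.mp ha Z hZ)

theorem connectedComponent_eq_sInter [CompactSpace X] [PrespectralSpace X] [QuasiSeparatedSpace X] (x : X) :
    connectedComponent x = ⋂₀ {Z : Set X | IsClopen Z ∧ x ∈ Z} := by
  classical
  set S := ⋂₀ {Z : Set X | IsClopen Z ∧ x ∈ Z} with hSdef
  refine subset_antisymm (subset_sInter fun Z hZ => hZ.1.connectedComponent_subset hZ.2) ?_
  have hSc : IsClosed S := isClosed_sInter fun Z hZ => hZ.1.1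
  have hxS : x ∈ S := mem_sInter.mpr fun Z hZ => hZ.2
  refine IsPreconnected.subset_connectedComponent ?_ hxS
  rw [isPreconnected_iff_subset_of_fully_disjoint_closed hSc]
  intro B C hB hC hBC hd
  have hex : ∀ {K F : Set X}, IsClosed K → IsClosed F → Disjoint K F →
      ∃ U : Set X, IsOpen U ∧ IsCompact U ∧ K ⊆ U ∧ Disjoint U F := by
    intro K F hK hF hKF
    choose W hW hkW hWF using fun k : K =>
      PrespectralSpace.isTopologicalBasis.exists_subset_of_mem_open
        (Set.disjoint_left.mp hKF k.2) hF.isOpen_compl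
    obtain ⟨t, ht⟩ := hK.isCompact.elim_finite_subcover W (fun k => (hW k).1)
      fun k hk => mem_iUnion.mpr ⟨⟨k, hk⟩, hkW ⟨k, hk⟩⟩
    exact ⟨⋃ k ∈ t, W k, isOpen_biUnion fun k _ => (hW k).1, t.isCompact_biUnion fun k _ => (hW k).2, ht,
      Set.disjoint_left.mpr fun a ha haF => by
        obtain ⟨k, -, hak⟩ := mem_iUnion₂.mp ha
        exact hWF k hak haF⟩
  obtain ⟨U, hUo, hUc, hBU, hUC⟩ := hex (hB.inter hSc) (hC.inter hSc) (hd.mono inter_subset_left inter_subset_left)
  obtain ⟨V, hVo, hVc, hCV, hVB⟩ := hex (hC.inter hSc) (hB.inter hSc) (hd.symm.mono inter_subset_left inter_subset_left)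
  have hUV : Disjoint S (U ∩ V) := Set.disjoint_left.mpr fun a haS ha => (hBC haS).elim
    (fun h => Set.disjoint_left.mp hVB ha.2 ⟨h, haS⟩) fun h => Set.disjoint_left.mp hUC ha.1 ⟨h, haS⟩
  obtain ⟨Z₁, hZ₁, hx₁, hd₁⟩ := exists_isClopen_disjoint x
    (QuasiSeparatedSpace.inter_isCompact _ _ hUo hUc hVo hVc) hUV
  obtain ⟨Z₂, hZ₂, hx₂, hd₂⟩ := exists_isClopen_disjoint x (hUo.union hVo).isClosed_compl.isCompact
    (Set.disjoint_left.mpr fun a haS ha => ha ((hBC haS).elim (fun h => Or.inl (hBU ⟨h, haS⟩))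
      fun h => Or.inr (hCV ⟨h, haS⟩)))
  let Z := Z₁ ∩ Z₂
  have hsub : Z ⊆ U ∪ V := fun a ha => by_contra fun h => Set.disjoint_left.mp hd₂ ha.2 h
  have hnot : ∀ a ∈ Z, a ∈ U → a ∉ V := fun a ha hU hV => Set.disjoint_left.mp hd₁ ha.1 ⟨hU, hV⟩
  have hclo : ∀ {P Q : Set X}, IsOpen Q → Z ⊆ P ∪ Q → (∀ a ∈ Z, a ∈ P → a ∉ Q) → IsOpen P → IsClopen (Z ∩ P) := by
    intro P Q hQ hs hn hP
    refine ⟨?_, (hZ₁.inter hZ₂).2.inter hP⟩
    have e : Z ∩ P = Z ∩ Qᶜ := Set.ext fun a => ⟨fun h => ⟨h.1, hn a h.1 h.2⟩,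
      fun h => ⟨h.1, (hs h.1).resolve_right h.2⟩⟩
    rw [e]
    exact (hZ₁.inter hZ₂).1.inter hQ.isClosed_compl
  rcases hsub ⟨hx₁, hx₂⟩ with hxU | hxV
  · left
    intro a haS
    have haU : a ∈ U := (sInter_subset_of_mem
      (⟨hclo hVo hsub hnot hUo, ⟨hx₁, hx₂⟩, hxU⟩ : IsClopen (Z ∩ U) ∧ x ∈ Z ∩ U) haS).2
    exact (hBC haS).resolve_right fun h => Set.disjoint_left.mp hUC haU ⟨h, haS⟩
  · right
    intro a haS
    have haV : a ∈ V := (sInter_subset_of_mem
      (⟨hclo hUo (hsub.trans (union_comm U V).le) (fun b hb h h' => hnot b hb h' h) hVo, ⟨hx₁, hx₂⟩, hxV⟩ :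
        IsClopen (Z ∩ V) ∧ x ∈ Z ∩ V) haS).2
    exact (hBC haS).resolve_left fun h => Set.disjoint_left.mp hVB haV ⟨h, haS⟩

theorem sInter_isClopen_iff [CompactSpace X] [PrespectralSpace X] [QuasiSeparatedSpace X] (T : Set X) :
    (∃ S : Set (Set X), (∀ Z ∈ S, IsClopen Z) ∧ T = ⋂₀ S) ↔
      (IsClosed T ∧ ∀ x ∈ T, connectedComponent x ⊆ T) := by
  constructor
  · rintro ⟨S, hS, rfl⟩
    exact ⟨isClosed_sInter fun Z hZ => (hS Z hZ).1,
      fun x hx => subset_sInter fun Z hZ => (hS Z hZ).connectedComponent_subset (hx Z hZ)⟩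
  · rintro ⟨hT, hcc⟩
    refine ⟨{Z | IsClopen Z ∧ T ⊆ Z}, fun Z hZ => hZ.1, subset_antisymm (subset_sInter fun Z hZ => hZ.2) ?_⟩
    intro y hy
    by_contra hyT
    obtain ⟨Z, hZ, hyZ, hd⟩ := exists_isClopen_disjoint y hT.isCompact (by
      rw [← connectedComponent_eq_sInter y]
      refine Set.disjoint_left.mpr fun t ht htT => hyT (hcc t htT ?_)
      rw [← connectedComponent_eq ht]
      exact mem_connectedComponent)
    exact mem_sInter.mp hy Zᶜ ⟨hZ.compl, fun t ht htZ => Set.disjoint_left.mp hd htZ ht⟩ hyZ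

theorem t2Space_connectedComponents [CompactSpace X]
    (h : ∀ x : X, connectedComponent x = ⋂₀ {Z : Set X | IsClopen Z ∧ x ∈ Z}) :
    T2Space (ConnectedComponents X) := by
  refine ⟨fun a b hab => ?_⟩
  obtain ⟨x, rfl⟩ := ConnectedComponents.surjective_coe a
  obtain ⟨y, rfl⟩ := ConnectedComponents.surjective_coe b
  rw [ne_eq, ConnectedComponents.coe_eq_coe] at hab
  obtain ⟨Z, hZ, hxZ, hyZ⟩ : ∃ Z, IsClopen Z ∧ x ∈ Z ∧ y ∉ Z := by
    by_contra hcon
    push Not at hcon
    refine hab (connectedComponent_eq ?_)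
    rw [h x]
    exact fun Z hZ => hcon Z hZ.1 hZ.2
  have hpre : ((↑) : X → ConnectedComponents X) ⁻¹' (((↑) : X → ConnectedComponents X) '' Z) = Z := by
    rw [connectedComponents_preimage_image, hZ.biUnion_connectedComponent_eq]
  have hclopen : IsClopen (((↑) : X → ConnectedComponents X) '' Z) :=
    ConnectedComponents.isQuotientMap_coe.isClopen_preimage.mp (hpre.symm ▸ hZ)
  refine ⟨_, _, hclopen.2, hclopen.1.isOpen_compl, ⟨x, hxZ, rfl⟩, fun hy => hyZ (hpre.le hy), disjoint_compl_right⟩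

theorem card_le_of_denseRange [T2Space Y] (f : X → Y) (hd : DenseRange f) :
    Cardinal.mk Y ≤ (2 : Cardinal.{u}) ^ ((2 : Cardinal.{u}) ^ Cardinal.mk X) := by
  rw [← Cardinal.mk_set, ← Cardinal.mk_set]
  refine Cardinal.mk_le_of_injective (f := fun y : Y => {A : Set X | ∃ W, IsOpen W ∧ y ∈ W ∧ A = f ⁻¹' W}) ?_
  intro y y' he
  by_contra hne
  obtain ⟨U, V, hU, hV, hyU, hyV, hUV⟩ := t2_separation hne
  have hmem : f ⁻¹' U ∈ {A : Set X | ∃ W, IsOpen W ∧ y ∈ W ∧ A = f ⁻¹' W} := ⟨U, hU, hyU, rfl⟩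
  obtain ⟨W, hW, hyW, he'⟩ := he.le hmem
  obtain ⟨x, hxW, hxV⟩ := hd.exists_mem_open (hW.inter hV) ⟨y', hyW, hyV⟩
  exact Set.disjoint_left.mp hUV (he'.ge hxW) hxV

end PtTopLib
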