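import Mathlib.Topology.JacobsonSpace
import Mathlib.Topology.Spectral.Prespectral
import Mathlib.Topology.Constructible
import Mathlib.Topology.Separation.Basic
import Mathlib.Topology.LocallyClosed

/-!
# Jacobson spaces
-/

set_option autoImplicit false
universe u

open TopologicalSpace Topology Set

namespace PtTopLib

variable {X : Type u} [TopologicalSpace X]

theorem exists_not_closed_locallyClosed_point [T0Space X] [PrespectralSpace X] (hX : ¬ JacobsonSpace X) :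
    ∃ x : X, ¬ IsClosed ({x} : Set X) ∧ IsLocallyClosed ({x} : Set X) := by
  rw [jacobsonSpace_iff_locallyClosed] at hX
  push Not at hX
  obtain ⟨Z, ⟨z, hz⟩, ⟨U, C, hU, hC, rfl⟩, hZ⟩ := hX
  obtain ⟨V, hV, hzV, hVU⟩ := PrespectralSpace.isTopologicalBasis.exists_subset_of_mem_open hz.1 hU
  haveI : CompactSpace ↥(V ∩ C) := isCompact_iff_compactSpace.mp (hV.2.inter_right hC)
  obtain ⟨⟨x, hxV, hxC⟩, -, hx⟩ := (isClosed_univ (X := ↥(V ∩ C))).exists_closed_singleton ⟨⟨z, hzV, hz.2⟩, trivial⟩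
  refine ⟨x, fun h => ?_, ?_⟩
  · exact (Set.eq_empty_iff_forall_notMem.mp hZ) x ⟨⟨hVU hxV, hxC⟩, mem_closedPoints_iff.mpr h⟩
  · obtain ⟨D, hD, hDx⟩ := isClosed_induced_iff.mp hx
    refine ⟨V, C ∩ D, hV.1, hC.inter hD, Set.ext fun y => ⟨?_, fun hy => ?_⟩⟩
    · rintro rfl
      exact ⟨hxV, hxC, (hDx.ge rfl : (⟨y, hxV, hxC⟩ : ↥(V ∩ C)) ∈ Subtype.val ⁻¹' D)⟩
    · exact congrArg Subtype.val
        (mem_singleton_iff.mp (hDx.le (show (⟨y, hy.1, hy.2.1⟩ : ↥(V ∩ C)) ∈ Subtype.val ⁻¹' D from hy.2.2)))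

theorem jacobsonSpace_iUnion [JacobsonSpace X] {ι : Type u} (T : ι → Set X) (hT : ∀ i, IsLocallyClosed (T i)) :
    JacobsonSpace ↥(⋃ i, T i) ∧
      closedPoints ↥(⋃ i, T i) ⊆ (Subtype.val : ↥(⋃ i, T i) → X) ⁻¹' closedPoints X := by
  have key : ∀ Z : Set ↥(⋃ i, T i), Z.Nonempty → IsLocallyClosed Z → ∃ y ∈ Z, (y : X) ∈ closedPoints X := by
    rintro Z ⟨⟨z, hz⟩, hzZ⟩ ⟨U, C, hU, hC, rfl⟩
    obtain ⟨U', hU', rfl⟩ := isOpen_induced_iff.mp hU
    obtain ⟨C', hC', rfl⟩ := isClosed_induced_iff.mp hC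
    obtain ⟨i, hi⟩ := mem_iUnion.mp hz
    obtain ⟨y, hy, hyc⟩ := nonempty_inter_closedPoints (Z := (U' ∩ C') ∩ T i) ⟨z, hzZ, hi⟩
      ((IsLocallyClosed.inter ⟨U', C', hU', hC', rfl⟩ (hT i)))
    exact ⟨⟨y, mem_iUnion.mpr ⟨i, hy.2⟩⟩, hy.1, hyc⟩
  refine ⟨jacobsonSpace_iff_locallyClosed.mpr fun Z hne hZ => ?_, fun t ht => ?_⟩
  · obtain ⟨y, hy, hyc⟩ := key Z hne hZ
    exact ⟨y, hy, preimage_closedPoints_subset Subtype.val_injective continuous_subtype_val hyc⟩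
  · obtain ⟨y, hy, hyc⟩ := key {t} (singleton_nonempty t) (IsClosed.isLocallyClosed (mem_closedPoints_iff.mp ht))
    exact (mem_singleton_iff.mp hy) ▸ hyc

theorem exists_finite_locallyClosed {E : Set X} (hE : IsConstructible E) :
    ∃ 𝒮 : Set (Set X), 𝒮.Finite ∧ (∀ S ∈ 𝒮, IsLocallyClosed S) ∧ E = ⋃₀ 𝒮 := by
  suffices (∃ 𝒮 : Set (Set X), 𝒮.Finite ∧ (∀ S ∈ 𝒮, IsLocallyClosed S) ∧ E = ⋃₀ 𝒮) ∧
      ∃ 𝒮 : Set (Set X), 𝒮.Finite ∧ (∀ S ∈ 𝒮, IsLocallyClosed S) ∧ Eᶜ = ⋃₀ 𝒮 from this.1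
  induction hE using IsConstructible.empty_union_induction with
  | open_retrocompact U hU _ =>
    exact ⟨⟨{U}, finite_singleton U, fun S hS => hS ▸ hU.isLocallyClosed, (sUnion_singleton U).symm⟩,
      ⟨{Uᶜ}, finite_singleton _, fun S hS => hS ▸ hU.isClosed_compl.isLocallyClosed, (sUnion_singleton _).symm⟩⟩
  | union s _ t _ ihs iht =>
    obtain ⟨⟨A, hA, hAl, rfl⟩, A', hA', hAl', hAc⟩ := ihs
    obtain ⟨⟨B, hB, hBl, rfl⟩, B', hB', hBl', hBc⟩ := iht
    refine ⟨⟨A ∪ B, hA.union hB, fun S hS => hS.elim (hAl S) (hBl S), (sUnion_union A B).symm⟩,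
      ⟨image2 (· ∩ ·) A' B', hA'.image2 _ hB', ?_, ?_⟩⟩
    · rintro _ ⟨a, ha, b, hb, rfl⟩
      exact (hAl' a ha).inter (hBl' b hb)
    · rw [compl_union, hAc, hBc]
      ext x
      simp only [mem_inter_iff, mem_sUnion, mem_image2]
      constructor
      · rintro ⟨⟨a, ha, hxa⟩, b, hb, hxb⟩
        exact ⟨_, ⟨a, ha, b, hb, rfl⟩, hxa, hxb⟩
      · rintro ⟨_, ⟨a, ha, b, hb, rfl⟩, hxa, hxb⟩
        exact ⟨⟨a, ha, hxa⟩, b, hb, hxb⟩
  | compl s _ ih => exact ⟨ih.2, by rw [compl_compl]; exact ih.1⟩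

variable [JacobsonSpace X]

theorem nonempty_preimage_of_locallyClosed {Z : Set X} (hZ : IsLocallyClosed Z) (hne : Z.Nonempty) :
    ((Subtype.val : closedPoints X → X) ⁻¹' Z).Nonempty := by
  obtain ⟨x, hx, hxc⟩ := nonempty_inter_closedPoints hne hZ
  exact ⟨⟨x, hxc⟩, hx⟩

theorem subset_of_preimage_subset {Z W : Set X} (hZ : IsLocallyClosed (Z \ W))
    (h : (Subtype.val : closedPoints X → X) ⁻¹' Z ⊆ Subtype.val ⁻¹' W) : Z ⊆ W := by
  intro x hx
  by_contra hxW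
  obtain ⟨y, hy⟩ := nonempty_preimage_of_locallyClosed hZ ⟨x, hx, hxW⟩
  exact hy.2 (h hy.1)

theorem isCompact_iff_preimage {U : Set X} (hU : IsOpen U) :
    IsCompact U ↔ IsCompact ((Subtype.val : closedPoints X → X) ⁻¹' U) := by
  classical
  refine ⟨fun h => ?_, fun h => ?_⟩
  · refine isCompact_of_finite_subcover fun {ι} W hW hcov => ?_
    choose W' hW' hWW' using fun i => isOpen_induced_iff.mp (hW i)
    have hsub : U ⊆ ⋃ i, W' i := subset_of_preimage_subset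
      (hU.isLocallyClosed.inter (isOpen_iUnion hW').isClosed_compl.isLocallyClosed) (by
        intro y hy
        obtain ⟨i, hi⟩ := mem_iUnion.mp (hcov hy)
        rw [← hWW' i] at hi
        exact mem_iUnion.mpr ⟨i, hi⟩)
    obtain ⟨t, ht⟩ := h.elim_finite_subcover W' hW' hsub
    refine ⟨t, fun y hy => ?_⟩
    obtain ⟨i, hit, hi⟩ := mem_iUnion₂.mp (ht hy)
    exact mem_iUnion₂.mpr ⟨i, hit, hWW' i ▸ hi⟩
  · refine isCompact_of_finite_subcover fun {ι} W hW hcov => ?_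
    obtain ⟨t, ht⟩ := h.elim_finite_subcover (fun i => (Subtype.val : closedPoints X → X) ⁻¹' W i)
      (fun i => (hW i).preimage continuous_subtype_val) (fun y hy => by
        obtain ⟨i, hi⟩ := mem_iUnion.mp (hcov hy)
        exact mem_iUnion.mpr ⟨i, hi⟩)
    refine ⟨t, subset_of_preimage_subset
      (hU.isLocallyClosed.inter (isOpen_biUnion fun i _ => hW i).isClosed_compl.isLocallyClosed) fun y hy => ?_⟩
    obtain ⟨i, hit, hi⟩ := mem_iUnion₂.mp (ht hy)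
    exact mem_iUnion₂.mpr ⟨i, hit, hi⟩

theorem isRetrocompact_iff_preimage {U : Set X} (hU : IsOpen U) :
    IsRetrocompact U ↔ IsRetrocompact ((Subtype.val : closedPoints X → X) ⁻¹' U) := by
  refine ⟨fun h V hVc hV => ?_, fun h V hVc hV => ?_⟩
  · obtain ⟨V', hV', rfl⟩ := isOpen_induced_iff.mp hV
    exact (isCompact_iff_preimage (hU.inter hV')).mp (h ((isCompact_iff_preimage hV').mpr hVc) hV')
  · exact (isCompact_iff_preimage (hU.inter hV)).mpr
      (h ((isCompact_iff_preimage hV).mp hVc) (hV.preimage continuous_subtype_val))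

theorem isConstructible_preimage {E : Set X} (hE : IsConstructible E) :
    IsConstructible ((Subtype.val : closedPoints X → X) ⁻¹' E) :=
  hE.preimage continuous_subtype_val fun _ hs hr => (isRetrocompact_iff_preimage hs).mp hr

theorem preimage_subset_iff {E E' : Set X} (hE : IsConstructible E) (hE' : IsConstructible E') :
    (Subtype.val : closedPoints X → X) ⁻¹' E ⊆ Subtype.val ⁻¹' E' ↔ E ⊆ E' := by
  refine ⟨fun h x hx => by_contra fun hx' => ?_, preimage_mono⟩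
  obtain ⟨𝒮, -, hl, he⟩ := exists_finite_locallyClosed (hE.sdiff hE')
  obtain ⟨S, hS, hxS⟩ := mem_sUnion.mp (he.le ⟨hx, hx'⟩)
  obtain ⟨y, hy⟩ := nonempty_preimage_of_locallyClosed (hl S hS) ⟨x, hxS⟩
  have : (y : X) ∈ E \ E' := he.ge (mem_sUnion.mpr ⟨S, hS, hy⟩)
  exact this.2 (h this.1)

theorem exists_preimage_eq {F : Set (closedPoints X)} (hF : IsConstructible F) :
    ∃ E : Set X, IsConstructible E ∧ (Subtype.val : closedPoints X → X) ⁻¹' E = F := by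
  induction hF using IsConstructible.empty_union_induction with
  | open_retrocompact U hU hUc =>
    obtain ⟨U', hU', rfl⟩ := isOpen_induced_iff.mp hU
    exact ⟨U', ((isRetrocompact_iff_preimage hU').mpr hUc).isConstructible hU', rfl⟩
  | union s _ t _ ihs iht =>
    obtain ⟨A, hA, rfl⟩ := ihs
    obtain ⟨B, hB, rfl⟩ := iht
    exact ⟨A ∪ B, hA.union hB, rfl⟩
  | compl s _ ih =>
    obtain ⟨A, hA, rfl⟩ := ih
    exact ⟨Aᶜ, hA.compl, rfl⟩

end PtTopLib
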