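import Groth.Agent.PtTopLib.DimFun
import Mathlib.AlgebraicGeometry.Noetherian
import Mathlib.RingTheory.Spectrum.Prime.Topology

/-!
# Catenary schemes
-/

set_option autoImplicit false
universe u

open CategoryTheory AlgebraicGeometry TopologicalSpace Topology Set CatLib

namespace PtTopLib

theorem isCatenarySpace_spec_iff (R : Type u) [CommRing R] :
    PtTop.IsCatenarySpace (PrimeSpectrum R) ↔ CAlg.IsCatenary R := by
  let e := PrimeSpectrum.pointsEquivIrreducibleCloseds R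
  rw [isCatenarySpace_iff_isCat, isCatenary_iff]
  exact ⟨fun h => (isCat_orderDual h).of_orderIso e,
    fun h => (isCat_orderDual (h.of_orderIso e.symm)).of_orderIso (OrderIso.dualDual _)⟩

variable {S : Scheme.{u}}

theorem isCatenary_of_isCatenarySpace (h : PtTop.IsCatenarySpace S) {U : S.Opens} (hU : IsAffineOpen U) :
    CAlg.IsCatenary Γ(S, U) :=
  (isCatenarySpace_spec_iff _).mp (isCatenarySpace_of_isInducing hU.fromSpec.isOpenEmbedding.isInducing
    hU.fromSpec.isOpenEmbedding.isOpen_range.isLocallyClosed h)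

theorem isCatenarySpace_of_affines
    (h : ∀ s : S, ∃ U : S.affineOpens, s ∈ (U : S.Opens) ∧ CAlg.IsCatenary Γ(S, U)) :
    PtTop.IsCatenarySpace S := by
  refine isCatenarySpace_of_forall fun x => ?_
  obtain ⟨U, hxU, hU⟩ := h x
  refine ⟨PrimeSpectrum Γ(S, U), inferInstance, U.2.fromSpec, U.2.fromSpec.isOpenEmbedding.isInducing,
    (isCatenarySpace_spec_iff _).mpr hU, fun W hxW hf => ?_⟩
  exact mem_range_icMap_of_locallyClosed hf U.1.isOpen (C := univ)
    (by rw [inter_univ]; exact U.2.range_fromSpec) W (subset_univ _) ⟨x, hxW, hxU⟩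

theorem isCatenarySpace_iff_affineOpens :
    (PtTop.IsCatenarySpace S ↔ ∀ U : S.affineOpens, CAlg.IsCatenary Γ(S, U)) ∧
      (PtTop.IsCatenarySpace S ↔ ∀ s : S, ∃ U : S.affineOpens, s ∈ (U : S.Opens) ∧ CAlg.IsCatenary Γ(S, U)) := by
  have key : ∀ s : S, ∃ U : S.affineOpens, s ∈ (U : S.Opens) := fun s => by
    obtain ⟨V, hV, hsV, -⟩ := exists_isAffineOpen_mem_and_subset (x := s) (U := ⊤) trivial
    exact ⟨⟨V, hV⟩, hsV⟩
  refine ⟨⟨fun h U => isCatenary_of_isCatenarySpace h U.2, fun h => isCatenarySpace_of_affines fun s => ?_⟩,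
    ⟨fun h s => ?_, isCatenarySpace_of_affines⟩⟩
  · obtain ⟨U, hU⟩ := key s
    exact ⟨U, hU, h U⟩
  · obtain ⟨U, hU⟩ := key s
    exact ⟨U, hU, isCatenary_of_isCatenarySpace h U.2⟩

theorem isCatenarySpace_iff_stalks (X : Scheme.{u}) :
    PtTop.IsCatenarySpace X ↔ ∀ x : X, CAlg.IsCatenary (X.presheaf.stalk x) := by
  refine ⟨fun h x => ?_, fun h => isCatenarySpace_of_forall fun x => ?_⟩
  · obtain ⟨V, hV, hxV, -⟩ := exists_isAffineOpen_mem_and_subset (x := x) (U := ⊤) trivial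
    letI := TopCat.Presheaf.algebra_section_stalk X.presheaf (⟨x, hxV⟩ : (V : Set X))
    haveI : IsLocalization.AtPrime (X.presheaf.stalk x) (hV.primeIdealOf ⟨x, hxV⟩).asIdeal :=
      hV.isLocalization_stalk ⟨x, hxV⟩
    exact isCatenary_localization (hV.primeIdealOf ⟨x, hxV⟩).asIdeal.primeCompl _
      (isCatenary_of_isCatenarySpace h hV)
  · refine ⟨PrimeSpectrum (X.presheaf.stalk x), inferInstance, X.fromSpecStalk x,
      (X.fromSpecStalk x).isEmbedding.isInducing, (isCatenarySpace_spec_iff _).mpr (h x), fun W hxW hf => ?_⟩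
    obtain ⟨η, hη⟩ := QuasiSober.sober W.isIrreducible W.isClosed
    have hr : η ∈ range (X.fromSpecStalk x) := by
      rw [Scheme.range_fromSpecStalk]
      exact hη.specializes hxW
    have hηW : η ∈ (W : Set X) := hη.mem
    have hcl : (W : Set X) ⊆ closure ((W : Set X) ∩ range (X.fromSpecStalk x)) :=
      hη.def.ge.trans (closure_mono (singleton_subset_iff.mpr ⟨hηW, hr⟩))
    refine mem_range_icMap hf W ⟨η, hηW, hr⟩ ?_ hcl
    intro u v hu hv ⟨a, haW, hau⟩ ⟨b, hbW, hbv⟩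
    exact ⟨η, ⟨hηW, hr⟩, (hη.specializes haW.1).mem_open hu hau, (hη.specializes hbW.1).mem_open hv hbv⟩

theorem isCatenarySpace_iff_locally_dimFun (S : Scheme.{u}) [IsLocallyNoetherian S] :
    PtTop.IsCatenarySpace S ↔ ∀ s : S, ∃ U : S.Opens, s ∈ U ∧ ∃ δ : U → ℤ, PtTop.IsDimensionFunction δ := by
  classical
  refine ⟨fun h s => ?_, fun h => isCatenarySpace_of_cover fun s => ?_⟩
  · obtain ⟨V, hV, hsV, -⟩ := exists_isAffineOpen_mem_and_subset (x := s) (U := ⊤) trivial
    haveI := IsLocallyNoetherian.component_noetherian (X := S) ⟨V, hV⟩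
    obtain ⟨p, rfl⟩ : s ∈ Set.range hV.fromSpec := by rw [hV.range_fromSpec]; exact hsV
    have hc : PtTop.IsCatenarySpace (PrimeSpectrum Γ(S, V)) :=
      (isCatenarySpace_spec_iff _).mpr (isCatenary_of_isCatenarySpace h hV)
    obtain ⟨W, hW, hpW, δ, h1, h2⟩ := exists_dimFun_nhd hc p
    let f : PrimeSpectrum Γ(S, V) → S := hV.fromSpec
    have hf : IsOpenEmbedding f := hV.fromSpec.isOpenEmbedding
    let U : S.Opens := ⟨f '' W, hf.isOpenMap W hW⟩
    choose g hgW hg using fun x : U => x.2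
    have hsp : ∀ x y : U, x ⤳ y ↔ g x ⤳ g y := fun x y => by
      rw [← hf.isInducing.specializes_iff, hg, hg]
      exact subtype_specializes_iff x y
    have hinj : Function.Injective g := fun x y e => Subtype.ext (by rw [← hg x, ← hg y, e])
    refine ⟨U, ⟨p, hpW, rfl⟩, fun x => δ (g x),
      fun x y hxy hne => h1 _ (hgW x) _ (hgW y) ((hsp x y).mp hxy) fun e => hne (hinj e),
      fun x y hxy => h2 _ (hgW x) _ (hgW y) ⟨(hsp x y).mp hxy.1, fun e => hxy.2.1 (hinj e), fun z hz1 hz2 => ?_⟩⟩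
    have hzW : z ∈ W := hz2.mem_open hW (hgW y)
    let z' : U := ⟨f z, z, hzW, rfl⟩
    have hz' : g z' = z := hf.injective (hg z')
    rcases hxy.2.2 z' ((hsp x z').mpr (hz'.symm ▸ hz1)) ((hsp z' y).mpr (hz'.symm ▸ hz2)) with e | e
    · exact Or.inl (hz' ▸ congrArg g e)
    · exact Or.inr (hz' ▸ congrArg g e)
  · obtain ⟨U, hsU, δ, hδ⟩ := h s
    haveI hq : QuasiSober ↥U := U.isOpen.isOpenEmbedding_subtypeVal.quasiSober
    exact ⟨U, hsU, @isCatenarySpace_of_dimFun _ _ hq inferInstance _ hδ⟩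

end PtTopLib
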