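import Groth.Prelude.Def_W4stktopologysheavesDim
import Groth.Agent.CatLib.Basic
import Mathlib.Topology.Sober
import Mathlib.Topology.LocallyClosed
import Mathlib.Topology.NoetherianSpace

/-!
# Catenary spaces
-/

set_option autoImplicit false
universe u

open TopologicalSpace Topology Set CatLib

namespace PtTopLib

variable {X Y : Type u} [TopologicalSpace X] [TopologicalSpace Y]

/-- the closure of a point -/
def cl (x : X) : IrreducibleCloseds X :=
  ⟨closure {x}, isIrreducible_singleton.closure, isClosed_closure⟩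

@[simp] theorem coe_cl (x : X) : (cl x : Set X) = closure {x} := rfl

theorem cl_le_iff {x y : X} : cl y ≤ cl x ↔ x ⤳ y := specializes_iff_closure_subset.symm

theorem cl_le {x : X} {Z : IrreducibleCloseds X} (h : x ∈ (Z : Set X)) : cl x ≤ Z :=
  closure_minimal (singleton_subset_iff.mpr h) Z.isClosed

theorem mem_cl_self (x : X) : x ∈ (cl x : Set X) := subset_closure rfl

theorem exists_cl_eq [QuasiSober X] (Z : IrreducibleCloseds X) : ∃ x, cl x = Z := by
  obtain ⟨x, hx⟩ := QuasiSober.sober Z.isIrreducible Z.isClosed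
  exact ⟨x, IrreducibleCloseds.ext hx⟩

theorem cl_injective [T0Space X] : Function.Injective (cl : X → IrreducibleCloseds X) := fun _ _ h =>
  ((cl_le_iff.mp h.ge).antisymm (cl_le_iff.mp h.le)).eq

section Codim

theorem le_codim {T : IrreducibleCloseds X} {S : Set X} (s : LTSeries (IrreducibleCloseds X))
    (h : s.head = T) (h' : (s.last : Set X) ⊆ S) : (s.length : ℕ∞) ≤ PtTop.codim T S :=
  le_iSup_of_le s (le_iSup_of_le ⟨h, h'⟩ le_rfl)

theorem exists_extend {T T' : IrreducibleCloseds X} (s : LTSeries (IrreducibleCloseds X)) (h : s.head = T)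
    (h' : (s.last : Set X) ⊆ T') :
    ∃ t : LTSeries (IrreducibleCloseds X), t.head = T ∧ t.last = T' ∧ s.length ≤ t.length := by
  rcases (show s.last ≤ T' from h').eq_or_lt with e | hlt
  · exact ⟨s, h, e, le_rfl⟩
  · exact ⟨s.snoc T' hlt, by rw [RelSeries.head_snoc, h], RelSeries.last_snoc _ _ _, Nat.le_succ _⟩

theorem codim_le_of_bound {T T' : IrreducibleCloseds X} {n : ℕ}
    (hn : ∀ s : LTSeries (IrreducibleCloseds X), s.head = T → s.last = T' → s.length ≤ n) :
    PtTop.codim T (T' : Set X) ≤ n := by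
  refine iSup_le fun s => iSup_le fun hs => ?_
  obtain ⟨t, h1, h2, h3⟩ := exists_extend s hs.1 hs.2
  exact_mod_cast h3.trans (hn t h1 h2)

theorem bound_of_codim_ne_top {T T' : IrreducibleCloseds X} (h : PtTop.codim T (T' : Set X) ≠ ⊤) :
    ∃ n : ℕ, ∀ s : LTSeries (IrreducibleCloseds X), s.head = T → s.last = T' → s.length ≤ n := by
  obtain ⟨n, hn⟩ := ENat.ne_top_iff_exists.mp h
  exact ⟨n, fun s h1 h2 => ENat.coe_le_coe.mp (hn ▸ le_codim s h1 (h2 ▸ subset_rfl))⟩

theorem exists_saturated_eq_codim {T T' : IrreducibleCloseds X} (hle : T ≤ T')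
    (hb : ∃ n : ℕ, ∀ s : LTSeries (IrreducibleCloseds X), s.head = T → s.last = T' → s.length ≤ n) :
    ∃ s : LTSeries (IrreducibleCloseds X), s.head = T ∧ s.last = T' ∧ Saturated s ∧
      (s.length : ℕ∞) = PtTop.codim T (T' : Set X) := by
  obtain ⟨s, h1, h2, h3, h4⟩ := exists_saturated hle hb
  exact ⟨s, h1, h2, h3, le_antisymm (le_codim s h1 (h2 ▸ subset_rfl)) (codim_le_of_bound h4)⟩

theorem isCatenarySpace_iff_isCat : PtTop.IsCatenarySpace X ↔ IsCat (IrreducibleCloseds X) := by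
  refine ⟨fun h => ⟨fun p q hpq => bound_of_codim_ne_top (h p q hpq).1, fun s t hh hl hs ht => ?_⟩,
    fun h T T' hle => ?_⟩
  · have h1 := (h s.head s.last s.head_le_last).2
    exact_mod_cast (h1 s rfl rfl hs).trans (h1 t hh.symm hl.symm ht).symm
  · obtain ⟨n, hn⟩ := h.1 T T' hle
    refine ⟨ne_top_of_le_ne_top (ENat.coe_ne_top n) (codim_le_of_bound hn), fun s hs1 hs2 hs => ?_⟩
    obtain ⟨t, ht1, ht2, ht3, ht4⟩ := exists_saturated_eq_codim hle ⟨n, hn⟩
    rw [← ht4, h.2 s t (hs1.trans ht1.symm) (hs2.trans ht2.symm) hs ht3]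

theorem saturated_smash {α : Type*} [Preorder α] {s t : LTSeries α} (h : s.last = t.head) (hs : Saturated s)
    (ht : Saturated t) : Saturated (RelSeries.smash s t h) := by
  intro i
  rcases Fin.addCases (motive := fun i => (∃ j, i = Fin.castAdd t.length j) ∨ ∃ j, i = Fin.natAdd s.length j)
    (fun j => Or.inl ⟨j, rfl⟩) (fun j => Or.inr ⟨j, rfl⟩) i with ⟨j, rfl⟩ | ⟨j, rfl⟩
  · exact (RelSeries.smash_castAdd h j).symm ▸ (RelSeries.smash_succ_castAdd h j).symm ▸ hs j
  · exact (RelSeries.smash_natAdd h j).symm ▸ (RelSeries.smash_succ_natAdd h j).symm ▸ ht j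

theorem codim_additive (h : PtTop.IsCatenarySpace X) {A B C : IrreducibleCloseds X} (hAB : A ≤ B) (hBC : B ≤ C) :
    PtTop.codim A (C : Set X) = PtTop.codim A (B : Set X) + PtTop.codim B (C : Set X) := by
  obtain ⟨s, s1, s2, s3, s4⟩ := exists_saturated_eq_codim hAB (bound_of_codim_ne_top (h A B hAB).1)
  obtain ⟨t, t1, t2, t3, t4⟩ := exists_saturated_eq_codim hBC (bound_of_codim_ne_top (h B C hBC).1)
  have hst : s.last = t.head := s2.trans t1.symm
  rw [← s4, ← t4, ← (h A C (hAB.trans hBC)).2 (RelSeries.smash s t hst) (by rw [RelSeries.head_smash]; exact s1)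
    (by rw [RelSeries.last_smash]; exact t2) (saturated_smash hst s3 t3)]
  push_cast [RelSeries.smash_length]
  rfl

theorem isCatenarySpace_iff_codim_additive : PtTop.IsCatenarySpace X ↔
    (∀ A B : IrreducibleCloseds X, A ≤ B → PtTop.codim A (B : Set X) ≠ ⊤) ∧
    (∀ A B C : IrreducibleCloseds X, A ≤ B → B ≤ C →
      PtTop.codim A (C : Set X) = PtTop.codim A (B : Set X) + PtTop.codim B (C : Set X)) := by
  refine ⟨fun h => ⟨fun A B hAB => (h A B hAB).1, fun A B C => codim_additive h⟩, fun ⟨hf, hadd⟩ T T' hle => ?_⟩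
  refine ⟨hf T T' hle, ?_⟩
  suffices key : ∀ s : LTSeries (IrreducibleCloseds X), Saturated s →
      (s.length : ℕ∞) = PtTop.codim s.head (s.last : Set X) from fun s h1 h2 hs => h1 ▸ h2 ▸ key s hs
  intro s hs
  suffices key : ∀ (j : ℕ) (hj : j < s.length + 1), (j : ℕ∞) = PtTop.codim s.head (s ⟨j, hj⟩ : Set X) from
    key s.length (Nat.lt_succ_self _)
  intro j
  induction j with
  | zero =>
    intro hj
    refine le_antisymm zero_le (codim_le_of_bound (n := 0) fun t h1 h2 => ?_)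
    by_contra hne
    exact (LTSeries.strictMono t (show (0 : Fin (t.length + 1)) < Fin.last _ by
      rw [Fin.lt_def]; simp only [Fin.val_zero, Fin.val_last]; omega)).ne (h1.trans h2.symm)
  | succ j ih =>
    intro hj
    have hcov := hs ⟨j, by omega⟩
    have h1 : PtTop.codim (s ⟨j, by omega⟩) (s ⟨j + 1, hj⟩ : Set X) = 1 := by
      refine le_antisymm (codim_le_of_bound (n := 1) fun t h1 h2 => ?_) ?_
      · by_contra hlen
        let i : Fin (t.length + 1) := ⟨1, by omega⟩
        exact hcov.2 (c := t i)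
          (lt_of_eq_of_lt h1.symm (LTSeries.strictMono t (show (0 : Fin (t.length + 1)) < i by rw [Fin.lt_def]; simp [i])))
          (lt_of_lt_of_eq (LTSeries.strictMono t (show i < Fin.last _ by rw [Fin.lt_def]; simp only [i, Fin.val_last]; omega)) h2)
      · refine le_trans ?_ (le_codim ((RelSeries.singleton _ _).snoc _ hcov.1) (RelSeries.head_snoc _ _ _)
          (by rw [RelSeries.last_snoc]; rfl))
        simp
    rw [hadd s.head (s ⟨j, by omega⟩) (s ⟨j + 1, hj⟩) (s.head_le _) hcov.1.le, ← ih (by omega), h1]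
    push_cast
    rfl

end Codim

section Inducing

variable {f : Y → X} (hf : IsInducing f)
include hf

/-- irreducible closed sets along an inducing map -/
def icMap : IrreducibleCloseds Y ↪o IrreducibleCloseds X :=
  OrderEmbedding.ofMapLEIff
    (fun Z => ⟨closure (f '' (Z : Set Y)), (Z.isIrreducible.image f hf.continuous.continuousOn).closure, isClosed_closure⟩)
    fun Z Z' => by
      refine ⟨fun h => ?_, fun h => closure_mono (image_mono h)⟩
      intro z hz
      have h1 : f z ∈ closure (f '' (Z' : Set Y)) := h (subset_closure ⟨z, hz, rfl⟩)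
      rw [← mem_preimage, ← hf.closure_eq_preimage_closure_image, Z'.isClosed.closure_eq] at h1
      exact h1

theorem mem_range_icMap (W : IrreducibleCloseds X) (hne : ((W : Set X) ∩ range f).Nonempty)
    (hirr : IsPreirreducible ((W : Set X) ∩ range f)) (hcl : (W : Set X) ⊆ closure ((W : Set X) ∩ range f)) :
    W ∈ range (icMap hf) := by
  have hpre : IsPreirreducible (f ⁻¹' (W : Set X)) := by
    intro u v hu hv ⟨a, haW, hau⟩ ⟨b, hbW, hbv⟩
    obtain ⟨u', hu', rfl⟩ := hf.isOpen_iff.mp hu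
    obtain ⟨v', hv', rfl⟩ := hf.isOpen_iff.mp hv
    obtain ⟨_, ⟨hcW, c, rfl⟩, hcu, hcv⟩ :=
      hirr u' v' hu' hv' ⟨f a, ⟨haW, a, rfl⟩, hau⟩ ⟨f b, ⟨hbW, b, rfl⟩, hbv⟩
    exact ⟨c, hcW, hcu, hcv⟩
  obtain ⟨_, haW, a, rfl⟩ := hne
  refine ⟨⟨f ⁻¹' (W : Set X), ⟨⟨a, haW⟩, hpre⟩, W.isClosed.preimage hf.continuous⟩, IrreducibleCloseds.ext ?_⟩
  show closure (f '' (f ⁻¹' (W : Set X))) = (W : Set X)
  rw [image_preimage_eq_inter_range]
  exact subset_antisymm (closure_minimal inter_subset_left W.isClosed) hcl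

theorem mem_range_icMap_of_locallyClosed {U C : Set X} (hU : IsOpen U) (hr : range f = U ∩ C)
    (W : IrreducibleCloseds X) (hWC : (W : Set X) ⊆ C) (hWU : ((W : Set X) ∩ U).Nonempty) :
    W ∈ range (icMap hf) := by
  have e : (W : Set X) ∩ range f = (W : Set X) ∩ U := by
    rw [hr, ← inter_assoc, inter_eq_left]
    exact inter_subset_left.trans hWC
  refine mem_range_icMap hf W (e ▸ hWU) (e ▸ fun u v hu hv ⟨a, haW, hau⟩ ⟨b, hbW, hbv⟩ => ?_) (e ▸ subset_closure_inter_of_isPreirreducible_of_isOpen W.isIrreducible.2 hU hWU)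
  obtain ⟨c, hc, ⟨hcU, hcu⟩, -, hcv⟩ := W.isIrreducible.2 (U ∩ u) (U ∩ v) (hU.inter hu) (hU.inter hv)
    ⟨a, haW.1, haW.2, hau⟩ ⟨b, hbW.1, hbW.2, hbv⟩
  exact ⟨c, ⟨hc, hcU⟩, hcu, hcv⟩

end Inducing

theorem isCatenarySpace_of_isInducing {f : Y → X} (hf : IsInducing f) (hr : IsLocallyClosed (range f))
    (h : PtTop.IsCatenarySpace X) : PtTop.IsCatenarySpace Y := by
  obtain ⟨U, C, hU, hC, he⟩ := hr
  refine isCatenarySpace_iff_isCat.mpr ((isCatenarySpace_iff_isCat.mp h).of_embedding (icMap hf) ?_)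
  refine ⟨fun a ha b hb c hc => ?_⟩
  obtain ⟨A, rfl⟩ := ha
  obtain ⟨B, rfl⟩ := hb
  refine mem_range_icMap_of_locallyClosed hf hU he c ((show (c : Set X) ⊆ closure (f '' (B : Set Y)) from hc.2).trans (closure_minimal ?_ hC)) ?_
  · exact (image_subset_range f _).trans (he ▸ inter_subset_right)
  · obtain ⟨a, ha⟩ := A.isIrreducible.1
    exact ⟨f a, hc.1 (subset_closure ⟨a, ha, rfl⟩), (he.le ⟨a, rfl⟩).1⟩

theorem isCatenarySpace_subtype (h : PtTop.IsCatenarySpace X) {S : Set X} (hS : IsLocallyClosed S) :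
    PtTop.IsCatenarySpace S :=
  isCatenarySpace_of_isInducing IsInducing.subtypeVal (by rwa [Subtype.range_coe]) h

theorem isCatenarySpace_of_forall (h : ∀ x : X, ∃ (Y : Type u) (_ : TopologicalSpace Y) (f : Y → X)
    (_ : IsInducing f), PtTop.IsCatenarySpace Y ∧ ∀ W : IrreducibleCloseds X, x ∈ (W : Set X) →
      ∀ (hf : IsInducing f), W ∈ range (icMap hf)) : PtTop.IsCatenarySpace X := by
  refine isCatenarySpace_iff_isCat.mpr (isCat_of_forall_interval fun p q _ => ?_)
  obtain ⟨x, hx⟩ := p.isIrreducible.1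
  obtain ⟨Z, _, f, hf, hZ, hmem⟩ := h x
  exact ⟨_, fun W hW => hmem W (hW.1 hx) hf, isCat_range (isCatenarySpace_iff_isCat.mp hZ) (icMap hf)⟩

theorem isCatenarySpace_of_cover (h : ∀ x : X, ∃ U : Opens X, x ∈ U ∧ PtTop.IsCatenarySpace U) :
    PtTop.IsCatenarySpace X := by
  refine isCatenarySpace_of_forall fun x => ?_
  obtain ⟨U, hxU, hU⟩ := h x
  refine ⟨U, inferInstance, Subtype.val, IsInducing.subtypeVal, hU, fun W hxW hf => ?_⟩
  exact mem_range_icMap_of_locallyClosed hf U.isOpen (C := univ) (by rw [inter_univ]; exact Subtype.range_coe)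
    W (subset_univ _) ⟨x, hxW, hxU⟩

theorem isCatenarySpace_open (h : PtTop.IsCatenarySpace X) (U : Opens X) : PtTop.IsCatenarySpace U :=
  isCatenarySpace_of_isInducing IsInducing.subtypeVal
    (IsOpen.isLocallyClosed (U.isOpen.isOpenEmbedding_subtypeVal.isOpen_range)) h

theorem isCat_orderDual {α : Type*} [PartialOrder α] (h : IsCat α) : IsCat αᵒᵈ := by
  let rev : LTSeries αᵒᵈ → LTSeries α := fun s =>
    ⟨s.length, fun i => OrderDual.ofDual (s i.rev), fun i => by
      have := s.step i.rev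
      simpa [Fin.rev_castSucc, Fin.rev_succ] using this⟩
  have hh : ∀ s, (rev s).head = OrderDual.ofDual s.last := fun s => by
    show OrderDual.ofDual (s (Fin.rev 0)) = _
    rw [Fin.rev_zero]; rfl
  have hl : ∀ s, (rev s).last = OrderDual.ofDual s.head := fun s => by
    show OrderDual.ofDual (s (Fin.rev (Fin.last _))) = _
    rw [Fin.rev_last]; rfl
  have hsat : ∀ s, Saturated s → Saturated (rev s) := fun s hs i => by
    show OrderDual.ofDual (s i.castSucc.rev) ⋖ OrderDual.ofDual (s i.succ.rev)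
    rw [Fin.rev_castSucc, Fin.rev_succ]
    exact ofDual_covBy_ofDual_iff.mpr (hs i.rev)
  refine ⟨fun p q hpq => ?_, fun s t e1 e2 hs ht => ?_⟩
  · obtain ⟨n, hn⟩ := h.1 (OrderDual.ofDual q) (OrderDual.ofDual p) hpq
    exact ⟨n, fun s h1 h2 => hn (rev s) (by rw [hh, h2]) (by rw [hl, h1])⟩
  · exact h.2 (rev s) (rev t) (by rw [hh, hh, e2]) (by rw [hl, hl, e1]) (hsat s hs) (hsat t ht)

end PtTopLib
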