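import Groth.Agent.PtTopLib.Catenary
import Mathlib.Topology.LocallyConstant.Basic

/-!
# Dimension functions
-/

set_option autoImplicit false
universe u

open TopologicalSpace Topology Set CatLib

namespace PtTopLib

variable {X : Type u} [TopologicalSpace X]

/-- the generic point of an irreducible closed set -/
noncomputable def gen [QuasiSober X] (Z : IrreducibleCloseds X) : X := (exists_cl_eq Z).choose

theorem cl_gen [QuasiSober X] (Z : IrreducibleCloseds X) : cl (gen Z) = Z := (exists_cl_eq Z).choose_spec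

theorem gen_cl [QuasiSober X] [T0Space X] (x : X) : gen (cl x) = x := cl_injective (cl_gen _)

theorem covBy_iff [QuasiSober X] [T0Space X] {A B : IrreducibleCloseds X} :
    A ⋖ B ↔ PtTop.IsImmediateSpecialization (gen B) (gen A) := by
  have hA := cl_gen A
  have hB := cl_gen B
  generalize gen A = a at hA ⊢
  generalize gen B = b at hB ⊢
  subst hA hB
  constructor
  · intro h
    refine ⟨cl_le_iff.mp h.le, fun e => h.ne (congrArg cl e.symm), fun z hz1 hz2 => ?_⟩
    by_contra hcon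
    push Not at hcon
    exact h.2 (c := cl z) (lt_of_le_of_ne (cl_le_iff.mpr hz2) fun e => hcon.2 (cl_injective e).symm)
      (lt_of_le_of_ne (cl_le_iff.mpr hz1) fun e => hcon.1 (cl_injective e))
  · rintro ⟨h1, h2, h3⟩
    refine ⟨lt_of_le_of_ne (cl_le_iff.mpr h1) fun e => h2 (cl_injective e).symm, fun C hC1 hC2 => ?_⟩
    obtain ⟨z, rfl⟩ := exists_cl_eq C
    rcases h3 z (cl_le_iff.mp hC2.le) (cl_le_iff.mp hC1.le) with rfl | rfl
    · exact hC2.ne rfl
    · exact hC1.ne rfl

variable [QuasiSober X] [T0Space X] {δ : X → ℤ} (hδ : PtTop.IsDimensionFunction δ)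
include hδ

theorem length_le_sub (s : LTSeries (IrreducibleCloseds X)) :
    (s.length : ℤ) ≤ δ (gen s.last) - δ (gen s.head) := by
  suffices key : ∀ (j : ℕ) (hj : j < s.length + 1), (j : ℤ) ≤ δ (gen (s ⟨j, hj⟩)) - δ (gen s.head) from
    key s.length (Nat.lt_succ_self _)
  intro j
  induction j with
  | zero => intro hj; exact le_of_eq (sub_self _).symm
  | succ j ih =>
    intro hj
    have hlt : s ⟨j, by omega⟩ < s ⟨j + 1, hj⟩ := s.step ⟨j, by omega⟩
    have h1 : δ (gen (s ⟨j, by omega⟩)) < δ (gen (s ⟨j + 1, hj⟩)) := by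
      refine hδ.1 _ _ (cl_le_iff.mp ?_) fun e => hlt.ne ?_
      · rw [cl_gen, cl_gen]; exact hlt.le
      · exact (cl_gen _).symm.trans ((congrArg cl e.symm).trans (cl_gen _))
    have := ih (by omega)
    push_cast
    omega

theorem length_eq_sub (s : LTSeries (IrreducibleCloseds X)) (hs : Saturated s) :
    (s.length : ℤ) = δ (gen s.last) - δ (gen s.head) := by
  suffices key : ∀ (j : ℕ) (hj : j < s.length + 1), (j : ℤ) = δ (gen (s ⟨j, hj⟩)) - δ (gen s.head) from
    key s.length (Nat.lt_succ_self _)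
  intro j
  induction j with
  | zero => intro hj; exact (sub_self _).symm
  | succ j ih =>
    intro hj
    have h1 := hδ.2 _ _ (covBy_iff.mp (hs ⟨j, by omega⟩))
    have h2 := ih (by omega)
    change δ (gen (s ⟨j + 1, hj⟩)) = δ (gen (s ⟨j, _⟩)) + 1 at h1
    push_cast
    omega

theorem isCat_of_dimFun : IsCat (IrreducibleCloseds X) := by
  refine ⟨fun p q _ => ⟨(δ (gen q) - δ (gen p)).toNat, fun s h1 h2 => ?_⟩, fun s t hh hl hs ht => ?_⟩
  · have := length_le_sub hδ s
    rw [h1, h2] at this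
    omega
  · have h1 := length_eq_sub hδ s hs
    have h2 := length_eq_sub hδ t ht
    rw [hh, hl] at h1
    omega

theorem isCatenarySpace_of_dimFun : PtTop.IsCatenarySpace X :=
  isCatenarySpace_iff_isCat.mpr (isCat_of_dimFun hδ)

theorem codim_eq {A B : IrreducibleCloseds X} (h : A ≤ B) :
    PtTop.codim A (B : Set X) = ((δ (gen B) - δ (gen A)).toNat : ℕ∞) := by
  obtain ⟨s, h1, h2, h3, h4⟩ := exists_saturated_eq_codim h ((isCat_of_dimFun hδ).1 A B h)
  have := length_eq_sub hδ s h3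
  rw [h1, h2] at this
  rw [← h4]
  congr 1
  omega

theorem codim_cl_eq {x y : X} (h : x ⤳ y) :
    PtTop.codim (cl y) (closure {x}) = ((δ x - δ y).toNat : ℕ∞) := by
  have := codim_eq hδ (cl_le_iff.mpr h)
  rw [gen_cl, gen_cl] at this
  exact this

theorem delta_nonneg {x y : X} (h : x ⤳ y) : 0 ≤ δ x - δ y := by
  rcases eq_or_ne x y with rfl | hne
  · simp
  · have := hδ.1 x y h hne
    omega

omit hδ

theorem sub_locallyConstant (hX : ∀ x : X, ∃ E ∈ nhds x, NoetherianSpace E) {δ δ' : X → ℤ}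
    (hδ : PtTop.IsDimensionFunction δ) (hδ' : PtTop.IsDimensionFunction δ') :
    IsLocallyConstant (fun x => δ x - δ' x) := by
  classical
  refine (IsLocallyConstant.iff_exists_open _).mpr fun x => ?_
  obtain ⟨E, hE, hN⟩ := hX x
  obtain ⟨V, hVE, hV, hxV⟩ := mem_nhds_iff.mp hE
  haveI : NoetherianSpace V := by
    rw [noetherianSpace_set_iff]
    exact fun t ht => (noetherianSpace_set_iff E).mp hN t (ht.trans hVE)
  have hfin := NoetherianSpace.finite_irreducibleComponents (α := V)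
  let W : Set V := (⋃ Z ∈ {Z ∈ irreducibleComponents V | (⟨x, hxV⟩ : V) ∉ Z}, Z)ᶜ
  have hW : IsOpen W := ((hfin.subset (sep_subset _ _)).isClosed_biUnion fun Z hZ =>
    isClosed_of_mem_irreducibleComponents Z hZ.1).isOpen_compl
  refine ⟨Subtype.val '' W, hV.isOpenMap_subtype_val W hW, ⟨⟨x, hxV⟩, ?_, rfl⟩, ?_⟩
  · simp only [W, mem_compl_iff, mem_iUnion, not_exists]
    exact fun Z hZ hxZ => hZ.2 hxZ
  rintro _ ⟨y, hy, rfl⟩
  obtain ⟨Z, hZ, hyZ⟩ := mem_sUnion.mp (sUnion_irreducibleComponents (X := V).ge (mem_univ y))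
  have hxZ : (⟨x, hxV⟩ : V) ∈ Z := by
    by_contra h
    simp only [W, mem_compl_iff, mem_iUnion, not_exists] at hy
    exact hy Z ⟨hZ, h⟩ hyZ
  obtain ⟨η, hη⟩ := QuasiSober.sober (hZ.1.image Subtype.val continuous_subtype_val.continuousOn).closure
    isClosed_closure
  have hηy : η ⤳ (y : X) := hη.specializes (subset_closure ⟨y, hyZ, rfl⟩)
  have hηx : η ⤳ x := hη.specializes (subset_closure ⟨_, hxZ, rfl⟩)
  have h1 := codim_cl_eq hδ hηy
  have h2 := codim_cl_eq hδ' hηy
  have h3 := codim_cl_eq hδ hηx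
  have h4 := codim_cl_eq hδ' hηx
  have h5 := delta_nonneg hδ hηy
  have h6 := delta_nonneg hδ' hηy
  have h7 := delta_nonneg hδ hηx
  have h8 := delta_nonneg hδ' hηx
  have e1 : (δ η - δ y).toNat = (δ' η - δ' y).toNat := by exact_mod_cast h1.symm.trans h2
  have e2 : (δ η - δ x).toNat = (δ' η - δ' x).toNat := by exact_mod_cast h3.symm.trans h4
  show δ y - δ' y = δ x - δ' x
  omega

/-- Dimension functions exist near every point of a Noetherian catenary sober space. -/
theorem exists_dimFun_nhd [NoetherianSpace X] (hcat : PtTop.IsCatenarySpace X) (s : X) :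
    ∃ W : Set X, IsOpen W ∧ s ∈ W ∧ ∃ δ : X → ℤ,
      (∀ x ∈ W, ∀ y ∈ W, x ⤳ y → x ≠ y → δ y < δ x) ∧
      ∀ x ∈ W, ∀ y ∈ W, PtTop.IsImmediateSpecialization x y → δ x = δ y + 1 := by
  classical
  have hfin := NoetherianSpace.finite_irreducibleComponents (α := X)
  let C := irreducibleComponents X
  choose S hSf hSc hSi hS using fun (p : C × C) =>
    NoetherianSpace.exists_finite_set_isClosed_irreducible
      ((isClosed_of_mem_irreducibleComponents p.1.1 p.1.2).inter (isClosed_of_mem_irreducibleComponents p.2.1 p.2.2))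
  haveI := hfin.to_subtype
  let A : Set (Set X) := {Z ∈ ⋃ p, S p | s ∉ Z}
  have hA : A.Finite := (finite_iUnion hSf).subset (sep_subset _ _)
  let W : Set X := (⋃ Z ∈ A, Z)ᶜ
  have hW : IsOpen W := (hA.isClosed_biUnion fun Z hZ => by
    obtain ⟨p, hp⟩ := mem_iUnion.mp hZ.1; exact hSc p Z hp).isOpen_compl
  have hsW : s ∈ W := by
    simp only [W, mem_compl_iff, mem_iUnion, not_exists]
    exact fun Z hZ h => hZ.2 h
  -- through `y ∈ W` and two components there is an irreducible closed set through `s` as well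
  have hkey : ∀ y ∈ W, ∀ p : C × C, y ∈ p.1.1 → y ∈ p.2.1 →
      ∃ T : IrreducibleCloseds X, y ∈ (T : Set X) ∧ s ∈ (T : Set X) ∧ (T : Set X) ⊆ p.1.1 ∧ (T : Set X) ⊆ p.2.1 := by
    intro y hy p h1 h2
    obtain ⟨Z, hZ, hyZ⟩ := mem_sUnion.mp ((hS p).le ⟨h1, h2⟩)
    have hsZ : s ∈ Z := by
      by_contra h
      simp only [W, mem_compl_iff, mem_iUnion, not_exists] at hy
      exact hy Z ⟨mem_iUnion.mpr ⟨p, hZ⟩, h⟩ hyZ
    have hsub : Z ⊆ p.1.1 ∩ p.2.1 := (subset_sUnion_of_mem hZ).trans (hS p).ge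
    exact ⟨⟨Z, hSi p Z hZ, hSc p Z hZ⟩, hyZ, hsZ, hsub.trans inter_subset_left, hsub.trans inter_subset_right⟩
  let ic : C → IrreducibleCloseds X := fun Z => ⟨Z.1, Z.2.1, isClosed_of_mem_irreducibleComponents Z.1 Z.2⟩
  let c : IrreducibleCloseds X → IrreducibleCloseds X → ℤ := fun A B => ((PtTop.codim A (B : Set X)).toNat : ℤ)
  have cadd : ∀ A B D : IrreducibleCloseds X, A ≤ B → B ≤ D → c A D = c A B + c B D := by
    intro A B D hAB hBD
    obtain ⟨m, hm⟩ := ENat.ne_top_iff_exists.mp (hcat A B hAB).1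
    obtain ⟨n, hn⟩ := ENat.ne_top_iff_exists.mp (hcat B D hBD).1
    simp only [c, codim_additive hcat hAB hBD, ← hm, ← hn]
    norm_cast
  choose comp hcomp using fun y : X => mem_sUnion.mp (sUnion_irreducibleComponents (X := X).ge (mem_univ y))
  let δ : X → ℤ := fun y => c (cl s) (ic ⟨comp y, (hcomp y).1⟩) - c (cl y) (ic ⟨comp y, (hcomp y).1⟩)
  have hind : ∀ y ∈ W, ∀ Z : C, y ∈ Z.1 → δ y = c (cl s) (ic Z) - c (cl y) (ic Z) := by
    intro y hy Z hyZ
    obtain ⟨T, hyT, hsT, hT1, hT2⟩ := hkey y hy (⟨comp y, (hcomp y).1⟩, Z) (hcomp y).2 hyZ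
    simp only [δ]
    rw [cadd (cl s) T _ (cl_le hsT) hT1, cadd (cl y) T _ (cl_le hyT) hT1,
      cadd (cl s) T (ic Z) (cl_le hsT) hT2, cadd (cl y) T (ic Z) (cl_le hyT) hT2]
    ring
  have hdiff : ∀ x ∈ W, ∀ y ∈ W, x ⤳ y → δ x - δ y = c (cl y) (cl x) := by
    intro x hx y hy h
    have hyZ : y ∈ comp x := h.mem_closed (isClosed_of_mem_irreducibleComponents _ (hcomp x).1) (hcomp x).2
    rw [hind y hy ⟨comp x, (hcomp x).1⟩ hyZ]
    simp only [δ]
    rw [cadd (cl y) (cl x) (ic ⟨comp x, (hcomp x).1⟩) (cl_le_iff.mpr h) (cl_le (hcomp x).2)]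
    ring
  refine ⟨W, hW, hsW, δ, fun x hx y hy h hne => ?_, fun x hx y hy h => ?_⟩
  · have h1 := hdiff x hx y hy h
    obtain ⟨n, hn⟩ := ENat.ne_top_iff_exists.mp (hcat (cl y) (cl x) (cl_le_iff.mpr h)).1
    have h2 : 1 ≤ n := by
      have := le_codim (T := cl y) (S := (cl x : Set X))
        ((RelSeries.singleton _ (cl y)).snoc (cl x) (lt_of_le_of_ne (cl_le_iff.mpr h) fun e => hne (cl_injective e).symm))
        (RelSeries.head_snoc _ _ _) (by rw [RelSeries.last_snoc])
      rw [← hn] at this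
      simpa using this
    simp only [c, ← hn, ENat.toNat_coe] at h1
    omega
  · have h1 := hdiff x hx y hy h.1
    have hcov : cl y ⋖ cl x := covBy_iff.mpr (by rw [gen_cl, gen_cl]; exact h)
    have h2 : PtTop.codim (cl y) (cl x : Set X) = 1 := by
      refine (((hcat _ _ hcov.le).2 ((RelSeries.singleton _ (cl y)).snoc (cl x) hcov.1) (RelSeries.head_snoc _ _ _)
        (RelSeries.last_snoc _ _ _) ?_)).symm.trans (by simp)
      intro i
      obtain rfl : i = (0 : Fin 1) := Fin.fin_one_eq_zero i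
      simpa [RelSeries.snoc, RelSeries.append, Fin.append, Fin.addCases] using hcov
    simp only [c, h2, ENat.toNat_one] at h1
    omega

end PtTopLib
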