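import Groth.Prelude.Def_W4stktopologysheavesDim
import Mathlib.Topology.Spectral.Basic
import Mathlib.Topology.NoetherianSpace

/-!
# The soberification
-/

set_option autoImplicit false
universe u

open TopologicalSpace Topology Set

namespace PtTopLib

variable {X : Type u} [TopologicalSpace X]

/-- irreducible closed sets meeting `U` -/
def hit (U : Set X) : Set (PtTop.Sob X) :=
  {Z : IrreducibleCloseds X | ((Z : Set X) ∩ U).Nonempty}

/-- the underlying irreducible closed set -/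
abbrev toIC (Z : PtTop.Sob X) : IrreducibleCloseds X := Z

/-- as a point of the soberification -/
abbrev ofIC (Z : IrreducibleCloseds X) : PtTop.Sob X := Z

theorem mem_hit {U : Set X} {Z : IrreducibleCloseds X} :
    (Z : PtTop.Sob X) ∈ hit U ↔ ((Z : Set X) ∩ U).Nonempty := Iff.rfl

theorem isOpen_hit {U : Set X} (hU : IsOpen U) : IsOpen (hit U) :=
  GenerateOpen.basic _ ⟨⟨U, hU⟩, rfl⟩

theorem hit_inter {U V : Set X} (hU : IsOpen U) (hV : IsOpen V) : hit (U ∩ V) = hit U ∩ hit V := by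
  refine Set.ext fun Z => ⟨fun ⟨x, hx, hxU, hxV⟩ => ⟨⟨x, hx, hxU⟩, ⟨x, hx, hxV⟩⟩, fun ⟨h1, h2⟩ => ?_⟩
  exact (toIC Z).isIrreducible.2 U V hU hV h1 h2

theorem hit_iUnion {ι : Sort*} (U : ι → Set X) : hit (⋃ i, U i) = ⋃ i, hit (U i) := by
  refine Set.ext fun Z => ⟨?_, fun h => ?_⟩
  · rintro ⟨x, hx, hxU⟩
    obtain ⟨i, hi⟩ := mem_iUnion.mp hxU
    exact mem_iUnion.mpr ⟨i, x, hx, hi⟩
  · obtain ⟨i, x, hx, hi⟩ := mem_iUnion.mp h
    exact ⟨x, hx, mem_iUnion.mpr ⟨i, hi⟩⟩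

theorem hit_mono {U V : Set X} (h : U ⊆ V) : hit U ⊆ hit V := fun _ ⟨x, hx, hxU⟩ => ⟨x, hx, h hxU⟩

theorem isOpen_sob_iff {W : Set (PtTop.Sob X)} : IsOpen W ↔ ∃ U : Set X, IsOpen U ∧ W = hit U := by
  refine ⟨fun h => ?_, fun ⟨U, hU, e⟩ => e ▸ isOpen_hit hU⟩
  induction h with
  | basic s hs => obtain ⟨U, rfl⟩ := hs; exact ⟨U, U.2, rfl⟩
  | univ => exact ⟨univ, isOpen_univ, (eq_univ_of_forall (s := hit univ) fun Z =>
      mem_hit.mpr ⟨(toIC Z).isIrreducible.1.some,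
        (toIC Z).isIrreducible.1.some_mem, trivial⟩).symm⟩
  | inter s t _ _ ihs iht =>
    obtain ⟨U, hU, rfl⟩ := ihs
    obtain ⟨V, hV, rfl⟩ := iht
    exact ⟨U ∩ V, hU.inter hV, (hit_inter hU hV).symm⟩
  | sUnion S _ ih =>
    choose U hU hSU using ih
    refine ⟨⋃ (s) (hs : s ∈ S), U s hs, isOpen_iUnion fun s => isOpen_iUnion fun hs => hU s hs, ?_⟩
    simp only [hit_iUnion]
    rw [sUnion_eq_biUnion]
    exact iUnion₂_congr fun s hs => hSU s hs

theorem preimage_hit {U : Set X} (hU : IsOpen U) : PtTop.toSob X ⁻¹' hit U = U := by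
  refine Set.ext fun x => ⟨fun ⟨y, hy, hyU⟩ => (specializes_iff_mem_closure.mpr hy).mem_open hU hyU,
    fun hx => ⟨x, subset_closure rfl, hx⟩⟩

theorem hit_subset_iff {U V : Set X} (hU : IsOpen U) (hV : IsOpen V) : hit U ⊆ hit V ↔ U ⊆ V :=
  ⟨fun h => preimage_hit hU ▸ preimage_hit hV ▸ preimage_mono h, hit_mono⟩

theorem continuous_toSob : Continuous (PtTop.toSob X) := by
  refine ⟨fun W hW => ?_⟩
  obtain ⟨U, hU, rfl⟩ := isOpen_sob_iff.mp hW
  rwa [preimage_hit hU]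

theorem bijOn_preimage : BijOn (fun U' : Set (PtTop.Sob X) => PtTop.toSob X ⁻¹' U') {U' | IsOpen U'}
    {U : Set X | IsOpen U} := by
  refine ⟨fun W hW => hW.preimage continuous_toSob, fun W hW W' hW' he => ?_,
    fun U hU => ⟨hit U, isOpen_hit hU, preimage_hit hU⟩⟩
  obtain ⟨U, hU, rfl⟩ := isOpen_sob_iff.mp hW
  obtain ⟨U', hU', rfl⟩ := isOpen_sob_iff.mp hW'
  simp only [preimage_hit hU, preimage_hit hU'] at he
  rw [he]

theorem t0Space_sob : T0Space (PtTop.Sob X) := by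
  refine ⟨fun Z Z' h => ?_⟩
  have key : ∀ A B : IrreducibleCloseds X, Inseparable (ofIC A) (ofIC B) → A ≤ B := by
    intro A B hAB x hx
    by_contra hxB
    obtain ⟨y, hy, hy'⟩ :=
      (inseparable_iff_forall_isOpen.mp hAB _ (isOpen_hit B.isClosed.isOpen_compl)).mp ⟨x, hx, hxB⟩
    exact hy' hy
  exact (le_antisymm (key (toIC Z) (toIC Z') h) (key (toIC Z') (toIC Z) h.symm) : toIC Z = toIC Z')

theorem quasiSober_sob : QuasiSober (PtTop.Sob X) := by
  refine ⟨fun {S} hS hSc => ?_⟩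
  obtain ⟨U, hU, hSU⟩ := isOpen_sob_iff.mp hSc.isOpen_compl
  have hmem : ∀ x : X, x ∉ U → PtTop.toSob X x ∈ S := fun x hx => by
    by_contra h
    exact hx ((preimage_hit hU).le (hSU.le h))
  have hCirr : IsIrreducible Uᶜ := by
    constructor
    · obtain ⟨Z, hZ⟩ := hS.1
      by_contra hcon
      rw [not_nonempty_iff_eq_empty, compl_empty_iff] at hcon
      exact hSU.ge (show Z ∈ hit U from
        ⟨_, (toIC Z).isIrreducible.1.some_mem, hcon ▸ trivial⟩) hZ
    · rintro V W hV hW ⟨a, ha, haV⟩ ⟨b, hb, hbW⟩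
      obtain ⟨Z, hZS, hZV, hZW⟩ := hS.2 (hit V) (hit W) (isOpen_hit hV) (isOpen_hit hW)
        ⟨_, hmem a ha, a, subset_closure rfl, haV⟩ ⟨_, hmem b hb, b, subset_closure rfl, hbW⟩
      obtain ⟨x, hxZ, hxV, hxW⟩ := (toIC Z).isIrreducible.2 V W hV hW hZV hZW
      refine ⟨x, fun hxU => ?_, hxV, hxW⟩
      exact hSU.ge (show Z ∈ hit U from ⟨x, hxZ, hxU⟩) hZS
  let C : IrreducibleCloseds X := ⟨Uᶜ, hCirr, hU.isClosed_compl⟩
  refine ⟨ofIC C, Set.ext fun Z => ?_⟩
  have hCS : ofIC C ∈ S := by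
    by_contra h
    obtain ⟨x, hx, hxU⟩ := hSU.le h
    exact hx hxU
  refine ⟨fun hZ => closure_minimal (singleton_subset_iff.mpr hCS) hSc hZ, fun hZ => ?_⟩
  rw [mem_closure_iff]
  intro W hW hZW
  obtain ⟨V, hV, rfl⟩ := isOpen_sob_iff.mp hW
  obtain ⟨x, hxZ, hxV⟩ := hZW
  refine ⟨ofIC C, mem_hit.mpr ⟨x, fun hxU => ?_, hxV⟩, rfl⟩
  exact hSU.ge (show Z ∈ hit U from ⟨x, hxZ, hxU⟩) hZ

theorem exists_lift {Y : Type u} [TopologicalSpace Y] [QuasiSober Y] [T0Space Y] (f : X → Y) (hf : Continuous f) :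
    ∃ g : PtTop.Sob X → Y, Continuous g ∧ g ∘ PtTop.toSob X = f := by
  choose g hg using fun Z : IrreducibleCloseds X =>
    QuasiSober.sober ((Z.isIrreducible.image f hf.continuousOn).closure) isClosed_closure
  refine ⟨fun Z => g (toIC Z), ⟨fun W hW => ?_⟩, funext fun x => ?_⟩
  · have e : (fun Z => g (toIC Z)) ⁻¹' W = hit (f ⁻¹' W) := Set.ext fun Z => by
      constructor
      · intro h
        obtain ⟨_, hy, z, hz, rfl⟩ := mem_closure_iff.mp (hg (toIC Z)).mem W hW h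
        exact ⟨z, hz, hy⟩
      · rintro ⟨z, hz, hzW⟩
        exact ((hg (toIC Z)).specializes (subset_closure ⟨z, hz, rfl⟩)).mem_open hW hzW
    rw [e]
    exact isOpen_hit (hW.preimage hf)
  · have h1 := hg (⟨closure {x}, isIrreducible_singleton.closure, isClosed_closure⟩ : IrreducibleCloseds X)
    have h2 : IsGenericPoint (f x) (closure (f '' closure {x})) := by
      refine subset_antisymm (closure_mono (singleton_subset_iff.mpr ⟨x, subset_closure rfl, rfl⟩)) ?_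
      refine closure_minimal ((image_closure_subset_closure_image hf).trans ?_) isClosed_closure
      rw [image_singleton]
    exact h1.eq h2

theorem isCompact_hit_iff {U : Set X} (hU : IsOpen U) : IsCompact (hit U) ↔ IsCompact U := by
  classical
  refine ⟨fun h => isCompact_of_finite_subcover fun {ι} W hW hcov => ?_,
    fun h => isCompact_of_finite_subcover fun {ι} W hW hcov => ?_⟩
  · obtain ⟨t, ht⟩ := h.elim_finite_subcover (fun i => hit (W i)) (fun i => isOpen_hit (hW i))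
      ((hit_mono hcov).trans (hit_iUnion W).le)
    refine ⟨t, fun x hx => ?_⟩
    obtain ⟨i, hit', hi⟩ := mem_iUnion₂.mp (ht ((preimage_hit hU).ge hx : PtTop.toSob X x ∈ hit U))
    exact mem_iUnion₂.mpr ⟨i, hit', (preimage_hit (hW i)).le hi⟩
  · choose V hV hWV using fun i => isOpen_sob_iff.mp (hW i)
    obtain ⟨t, ht⟩ := h.elim_finite_subcover V hV (fun x hx => by
      obtain ⟨i, hi⟩ := mem_iUnion.mp (hcov ((preimage_hit hU).ge hx : PtTop.toSob X x ∈ hit U))
      exact mem_iUnion.mpr ⟨i, (preimage_hit (hV i)).le ((hWV i).le hi)⟩)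
    refine ⟨t, (hit_mono ht).trans ?_⟩
    simp only [hit_iUnion]
    exact (iUnion₂_congr fun i _ => (hWV i).symm).le

theorem compactSpace_sob [CompactSpace X] : CompactSpace (PtTop.Sob X) := by
  refine ⟨?_⟩
  obtain ⟨U, hU, e⟩ := isOpen_sob_iff.mp (isOpen_univ : IsOpen (univ : Set (PtTop.Sob X)))
  rw [e, isCompact_hit_iff hU]
  have : U = univ := by rw [← preimage_hit hU, ← e, preimage_univ]
  exact this ▸ isCompact_univ

theorem spectralSpace_sob [CompactSpace X] [PrespectralSpace X] [QuasiSeparatedSpace X] :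
    SpectralSpace (PtTop.Sob X) := by
  haveI := compactSpace_sob (X := X)
  haveI := t0Space_sob (X := X)
  haveI := quasiSober_sob (X := X)
  haveI : QuasiSeparatedSpace (PtTop.Sob X) := ⟨fun A B hA hAc hB hBc => by
    obtain ⟨U, hU, rfl⟩ := isOpen_sob_iff.mp hA
    obtain ⟨V, hV, rfl⟩ := isOpen_sob_iff.mp hB
    rw [← hit_inter hU hV, isCompact_hit_iff (hU.inter hV)]
    exact QuasiSeparatedSpace.inter_isCompact _ _ hU ((isCompact_hit_iff hU).mp hAc) hV
      ((isCompact_hit_iff hV).mp hBc)⟩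
  haveI : PrespectralSpace (PtTop.Sob X) := ⟨isTopologicalBasis_of_isOpen_of_nhds (fun W hW => hW.1)
    fun Z W hZ hW => by
      obtain ⟨U, hU, rfl⟩ := isOpen_sob_iff.mp hW
      obtain ⟨x, hx, hxU⟩ := hZ
      obtain ⟨V, hV, hxV, hVU⟩ := PrespectralSpace.isTopologicalBasis.exists_subset_of_mem_open hxU hU
      exact ⟨hit V, ⟨isOpen_hit hV.1, (isCompact_hit_iff hV.1).mpr hV.2⟩, ⟨x, hx, hxV⟩, hit_mono hVU⟩⟩
  exact {}

theorem noetherian_sob [NoetherianSpace X] :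
    NoetherianSpace (PtTop.Sob X) ∧ SpectralSpace (PtTop.Sob X) := by
  have hN : NoetherianSpace (PtTop.Sob X) := by
    refine (noetherianSpace_iff_opens _).mpr fun W => ?_
    obtain ⟨U, hU, e⟩ := isOpen_sob_iff.mp W.2
    rw [show (W : Set (PtTop.Sob X)) = hit U from e, isCompact_hit_iff hU]
    exact NoetherianSpace.isCompact U
  haveI : PrespectralSpace X := ⟨isTopologicalBasis_of_isOpen_of_nhds (fun U hU => hU.1)
    fun x U hx hU => ⟨U, ⟨hU, NoetherianSpace.isCompact U⟩, hx, subset_rfl⟩⟩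
  haveI : QuasiSeparatedSpace X := ⟨fun U V _ _ _ _ => NoetherianSpace.isCompact _⟩
  exact ⟨hN, spectralSpace_sob⟩

end PtTopLib
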