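import Mathlib.Topology.Sober
import Mathlib.Topology.NoetherianSpace
import Mathlib.Topology.LocallyClosed
import Mathlib.Topology.Category.TopCat.Limits.Cofiltered
import Mathlib.CategoryTheory.Filtered.Basic
import Mathlib.Data.Fintype.Sum
import Mathlib.Data.Fintype.Powerset
import Mathlib.Data.Finset.BooleanAlgebra
import Mathlib.Data.Set.Card

/-!
# Stratifications, open quotients, limits
-/

set_option autoImplicit false
universe u

open TopologicalSpace Topology Set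

namespace PtTopLib

variable {X : Type u} [TopologicalSpace X]

/-- A finite stratification refining a partition into locally closed sets. -/
theorem exists_stratification {n : ℕ} (P : Fin n → Set X) (hP : ∀ k, IsLocallyClosed (P k)) :
    ∃ (I : Type) (_ : Fintype I) (_ : PartialOrder I) (S : I → Set X),
      (∀ i, IsLocallyClosed (S i)) ∧ (⋃ i, S i = univ) ∧ (∀ i j, i ≠ j → Disjoint (S i) (S j)) ∧
      (∀ j, closure (S j) ⊆ ⋃ i ∈ Iic j, S i) ∧ (∀ i k, (S i ∩ P k).Nonempty → S i ⊆ P k) := by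
  classical
  let A := Fin n ⊕ Fin n
  let C : A → Set X := Sum.elim (fun k => closure (P k)) fun k => closure (P k) \ P k
  have hC : ∀ a, IsClosed (C a) := by
    rintro (k | k)
    · exact isClosed_closure
    · have h := isLocallyClosed_iff_isOpen_coborder.mp (hP k)
      rwa [coborder, isOpen_compl_iff] at h
  let S : (Finset A)ᵒᵈ → Set X := fun σ => {x | ∀ a, x ∈ C a ↔ a ∈ OrderDual.ofDual σ}
  let pat : X → (Finset A)ᵒᵈ := fun x => OrderDual.toDual (Finset.univ.filter fun a => x ∈ C a)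
  have hpat : ∀ x, x ∈ S (pat x) := fun x a => by simp [pat]
  have hmem : ∀ (x : X) σ, x ∈ S σ → σ = pat x := fun x σ h => by
    apply OrderDual.ofDual.injective
    ext a
    simp [pat, h a]
  refine ⟨(Finset A)ᵒᵈ, inferInstance, inferInstance, S, fun σ => ?_,
    eq_univ_of_forall fun x => mem_iUnion.mpr ⟨pat x, hpat x⟩,
    fun i j hij => Set.disjoint_left.mpr fun x hi hj => hij ((hmem x i hi).trans (hmem x j hj).symm),
    fun j x hx => ?_, fun i k ⟨x, hxi, hxk⟩ y hy => ?_⟩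
  · have e : S σ = (⋂ a ∈ OrderDual.ofDual σ, C a) ∩ (⋃ a ∈ (OrderDual.ofDual σ)ᶜ, C a)ᶜ := by
      ext x
      simp only [S, mem_setOf_eq, mem_inter_iff, mem_iInter, mem_compl_iff, mem_iUnion, not_exists,
        Finset.mem_compl]
      exact ⟨fun h => ⟨fun a ha => (h a).mpr ha, fun a ha hx => ha ((h a).mp hx)⟩,
        fun h a => ⟨fun hx => by_contra fun ha => h.2 a ha hx, h.1 a⟩⟩
    rw [e]
    exact (isClosed_biInter fun a _ => hC a).isLocallyClosed.inter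
      (((OrderDual.ofDual σ)ᶜ.finite_toSet.isClosed_biUnion fun a _ => hC a).isOpen_compl.isLocallyClosed)
  · refine mem_iUnion₂.mpr ⟨pat x, ?_, hpat x⟩
    show OrderDual.ofDual j ⊆ OrderDual.ofDual (pat x)
    intro a ha
    simp only [pat, OrderDual.ofDual_toDual, Finset.mem_filter, Finset.mem_univ, true_and]
    exact closure_minimal (fun z hz => (hz a).mpr ha) (hC a) hx
  · have h1 : y ∈ closure (P k) := (hy (Sum.inl k)).mpr ((hxi (Sum.inl k)).mp (subset_closure hxk))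
    by_contra hyk
    exact ((hxi (Sum.inr k)).mpr ((hy (Sum.inr k)).mp ⟨h1, hyk⟩)).2 hxk

/-- A family of irreducible closed sets closed under intersection. -/
def IsGood (G : Set (Set X)) : Prop :=
  G.Finite ∧ (∀ A ∈ G, IsIrreducible A ∧ IsClosed A) ∧
    ∀ A ∈ G, ∀ B ∈ G, ∃ H ⊆ G, A ∩ B = ⋃₀ H

theorem exists_isGood [NoetherianSpace X] (Y : Closeds X) : ∀ F : Set (Set X), F.Finite →
    (∀ A ∈ F, IsClosed A ∧ A ⊆ (Y : Set X)) →
    ∃ G : Set (Set X), IsGood G ∧ (∀ A ∈ G, A ⊆ (Y : Set X)) ∧ (∃ H ⊆ G, (Y : Set X) = ⋃₀ H) ∧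
      ∀ A ∈ F, ∃ H ⊆ G, A = ⋃₀ H := by
  classical
  induction Y using WellFoundedLT.induction with
  | ind Y ih =>
    intro F hF hFY
    by_cases hne : (Y : Set X).Nonempty
    swap
    · rw [not_nonempty_iff_eq_empty] at hne
      refine ⟨∅, ⟨finite_empty, fun A hA => hA.elim, fun A hA => hA.elim⟩, fun A hA => hA.elim,
        ⟨∅, subset_rfl, by simp [hne]⟩, fun A hA => ⟨∅, subset_rfl, ?_⟩⟩
      rw [sUnion_empty]
      exact subset_empty_iff.mp (hne ▸ (hFY A hA).2)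
    by_cases hirr : IsPreirreducible (Y : Set X)
    · -- the proper members live in a smaller closed set
      let F' := {A ∈ F | A ≠ (Y : Set X)}
      have hF' : F'.Finite := hF.subset (sep_subset _ _)
      let Y' : Closeds X := ⟨⋃ A ∈ F', A, hF'.isClosed_biUnion fun A hA => (hFY A hA.1).1⟩
      have hlt : Y' < Y := by
        refine lt_of_le_of_ne (iUnion₂_subset fun A hA => (hFY A hA.1).2) fun e => ?_
        obtain ⟨A, hA, hYA⟩ := isIrreducible_iff_sUnion_isClosed.mp ⟨hne, hirr⟩ hF'.toFinset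
          (fun A hA => (hFY A (hF'.mem_toFinset.mp hA).1).1)
          (by rw [hF'.coe_toFinset, sUnion_eq_biUnion]; exact (congrArg SetLike.coe e).ge)
        rw [hF'.mem_toFinset] at hA
        exact hA.2 (subset_antisymm (hFY A hA.1).2 hYA)
      obtain ⟨G, ⟨hGf, hGi, hGc⟩, hGY, -, hGF⟩ :=
        ih Y' hlt F' hF' fun A hA => ⟨(hFY A hA.1).1, subset_biUnion_of_mem (u := fun A => A) hA⟩
      have hGY' : ∀ A ∈ G, A ⊆ (Y : Set X) := fun A hA => (hGY A hA).trans hlt.le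
      refine ⟨insert (Y : Set X) G, ⟨hGf.insert _, ?_, ?_⟩, ?_,
        ⟨{(Y : Set X)}, singleton_subset_iff.mpr (mem_insert _ _), (sUnion_singleton _).symm⟩, fun A hA => ?_⟩
      · rintro A (rfl | hA)
        exacts [⟨⟨hne, hirr⟩, Y.isClosed⟩, hGi A hA]
      · rintro A (rfl | hA) B (rfl | hB)
        · exact ⟨{(Y : Set X)}, singleton_subset_iff.mpr (mem_insert _ _), by rw [inter_self, sUnion_singleton]⟩
        · exact ⟨{B}, singleton_subset_iff.mpr (mem_insert_of_mem _ hB),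
            by rw [sUnion_singleton, inter_eq_right.mpr (hGY' B hB)]⟩
        · exact ⟨{A}, singleton_subset_iff.mpr (mem_insert_of_mem _ hA),
            by rw [sUnion_singleton, inter_eq_left.mpr (hGY' A hA)]⟩
        · obtain ⟨H, hH, e⟩ := hGc A hA B hB
          exact ⟨H, hH.trans (subset_insert _ _), e⟩
      · rintro A (rfl | hA)
        exacts [subset_rfl, hGY' A hA]
      · by_cases e : A = (Y : Set X)
        · exact ⟨{(Y : Set X)}, singleton_subset_iff.mpr (mem_insert _ _), e.trans (sUnion_singleton _).symm⟩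
        · obtain ⟨H, hH, e'⟩ := hGF A ⟨hA, e⟩
          exact ⟨H, hH.trans (subset_insert _ _), e'⟩
    rw [isPreirreducible_iff_isClosed_union_isClosed] at hirr
    push Not at hirr
    obtain ⟨P₀, Q₀, hP₀, hQ₀, hPQ, hnP, hnQ⟩ := hirr
    let P : Closeds X := ⟨(Y : Set X) ∩ P₀, Y.isClosed.inter hP₀⟩
    let Q : Closeds X := ⟨(Y : Set X) ∩ Q₀, Y.isClosed.inter hQ₀⟩
    have hPlt : P < Y :=
      lt_of_le_of_ne inter_subset_left fun e => hnP (inter_eq_left.mp (congrArg SetLike.coe e))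
    have hQlt : Q < Y :=
      lt_of_le_of_ne inter_subset_left fun e => hnQ (inter_eq_left.mp (congrArg SetLike.coe e))
    obtain ⟨GP, ⟨hPf, hPi, hPc⟩, hPY, ⟨HP, hHP, hPu⟩, hPF⟩ := ih P hPlt
      (insert ((P : Set X) ∩ (Q : Set X)) ((fun A => A ∩ (P : Set X)) '' F)) ((hF.image _).insert _) (by
        rintro A (rfl | ⟨A, hA, rfl⟩)
        · exact ⟨P.isClosed.inter Q.isClosed, inter_subset_left⟩
        · exact ⟨(hFY A hA).1.inter P.isClosed, inter_subset_right⟩)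
    obtain ⟨GQ, ⟨hQf, hQi, hQc⟩, hQY, ⟨HQ, hHQ, hQu⟩, hQF⟩ := ih Q hQlt
      ((fun A => A ∩ (Q : Set X)) '' F ∪ (fun A => A ∩ (Q : Set X)) '' GP) ((hF.image _).union (hPf.image _)) (by
        rintro A (⟨A, hA, rfl⟩ | ⟨A, hA, rfl⟩)
        · exact ⟨(hFY A hA).1.inter Q.isClosed, inter_subset_right⟩
        · exact ⟨(hPi A hA).2.inter Q.isClosed, inter_subset_right⟩)
    -- intersecting a union of members with a member
    have hmix : ∀ A ∈ GP, ∀ B ∈ GQ, ∃ H ⊆ GP ∪ GQ, A ∩ B = ⋃₀ H := by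
      intro A hA B hB
      obtain ⟨H, hH, e⟩ := hQF (A ∩ (Q : Set X)) (Or.inr ⟨A, hA, rfl⟩)
      choose! K hK eK using fun C (hC : C ∈ H) => hQc C (hH hC) B hB
      refine ⟨⋃ C ∈ H, K C, iUnion₂_subset fun C hC => (hK C hC).trans subset_union_right, ?_⟩
      rw [show A ∩ B = A ∩ (Q : Set X) ∩ B by rw [inter_assoc, inter_eq_right.mpr (hQY B hB)], e]
      ext x
      simp only [mem_inter_iff, mem_sUnion, mem_iUnion]
      constructor
      · rintro ⟨⟨C, hC, hxC⟩, hxB⟩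
        obtain ⟨D, hD, hxD⟩ := mem_sUnion.mp ((eK C hC).le ⟨hxC, hxB⟩)
        exact ⟨D, ⟨C, hC, hD⟩, hxD⟩
      · rintro ⟨D, ⟨C, hC, hD⟩, hxD⟩
        have := (eK C hC).ge (mem_sUnion.mpr ⟨D, hD, hxD⟩)
        exact ⟨⟨C, hC, this.1⟩, this.2⟩
    refine ⟨GP ∪ GQ, ⟨hPf.union hQf, fun A hA => hA.elim (hPi A) (hQi A), ?_⟩, ?_,
      ⟨HP ∪ HQ, union_subset_union hHP hHQ, ?_⟩, fun A hA => ?_⟩
    · rintro A (hA | hA) B (hB | hB)
      · obtain ⟨H, hH, e⟩ := hPc A hA B hB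
        exact ⟨H, hH.trans subset_union_left, e⟩
      · exact hmix A hA B hB
      · rw [inter_comm]; exact hmix B hB A hA
      · obtain ⟨H, hH, e⟩ := hQc A hA B hB
        exact ⟨H, hH.trans subset_union_right, e⟩
    · exact fun A hA => hA.elim (fun h => (hPY A h).trans hPlt.le) fun h => (hQY A h).trans hQlt.le
    · rw [sUnion_union, ← hPu, ← hQu]
      exact subset_antisymm (fun x hx => (hPQ hx).imp (fun h => ⟨hx, h⟩) fun h => ⟨hx, h⟩)
        (union_subset hPlt.le hQlt.le)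
    · obtain ⟨H₁, h₁, e₁⟩ := hPF (A ∩ (P : Set X)) (Or.inr ⟨A, hA, rfl⟩)
      obtain ⟨H₂, h₂, e₂⟩ := hQF (A ∩ (Q : Set X)) (Or.inl ⟨A, hA, rfl⟩)
      refine ⟨H₁ ∪ H₂, union_subset_union h₁ h₂, ?_⟩
      rw [sUnion_union, ← e₁, ← e₂, ← inter_union_distrib_left, eq_comm, inter_eq_left]
      exact fun x hx => (hPQ ((hFY A hA).2 hx)).imp (fun h => ⟨(hFY A hA).2 hx, h⟩) fun h => ⟨(hFY A hA).2 hx, h⟩

/-- A finite good stratification refining a partition into locally closed sets. -/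
theorem exists_good_stratification [NoetherianSpace X] {n : ℕ} (P : Fin n → Set X)
    (hP : ∀ k, IsLocallyClosed (P k)) :
    ∃ (m : ℕ) (S : Fin m → Set X), (∀ i, IsLocallyClosed (S i)) ∧ (⋃ i, S i = univ) ∧
      (∀ i j, i ≠ j → Disjoint (S i) (S j)) ∧
      (∀ i j, (S i ∩ closure (S j)).Nonempty → S i ⊆ closure (S j)) ∧
      (∀ i k, (S i ∩ P k).Nonempty → S i ⊆ P k) := by
  classical
  obtain ⟨G, ⟨hGf, hGi, hGc⟩, -, ⟨H₀, hH₀, hcov⟩, hGF⟩ := exists_isGood (⊤ : Closeds X)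
    (range (fun k => closure (P k)) ∪ range (fun k => closure (P k) \ P k)) ((finite_range _).union (finite_range _))
    (by
      rintro A (⟨k, rfl⟩ | ⟨k, rfl⟩)
      · exact ⟨isClosed_closure, subset_univ _⟩
      · refine ⟨?_, subset_univ _⟩
        have h := isLocallyClosed_iff_isOpen_coborder.mp (hP k)
        rwa [coborder, isOpen_compl_iff] at h)
  haveI := hGf.fintype
  let e := Fintype.equivFin G
  let st : G → Set X := fun A => A.1 \ ⋃ B ∈ {B ∈ G | B ⊆ A.1 ∧ B ≠ A.1}, B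
  have hsmall : ∀ A : G, IsClosed (⋃ B ∈ {B ∈ G | B ⊆ A.1 ∧ B ≠ A.1}, B) := fun A =>
    (hGf.subset (sep_subset _ _)).isClosed_biUnion fun B hB => (hGi B hB.1).2
  -- the member carrying a point is minimal
  have hkey : ∀ (A : G) (x : X), x ∈ st A → ∀ B ∈ G, x ∈ B → A.1 ⊆ B := by
    intro A x hx B hB hxB
    obtain ⟨H, hH, eH⟩ := hGc A.1 A.2 B hB
    obtain ⟨C, hC, hxC⟩ := mem_sUnion.mp (eH.le ⟨hx.1, hxB⟩)
    have hCsub : C ⊆ A.1 ∩ B := (subset_sUnion_of_mem hC).trans eH.ge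
    by_cases hCA : C = A.1
    · exact hCA ▸ (hCsub.trans inter_subset_right)
    · exact absurd (mem_iUnion₂.mpr ⟨C, ⟨hH hC, hCsub.trans inter_subset_left, hCA⟩, hxC⟩) hx.2
  have hmem : ∀ (A : G) (x y : X), x ∈ st A → y ∈ st A → ∀ B ∈ G, x ∈ B → y ∈ B :=
    fun A x y hx hy B hB hxB => hkey A x hx B hB hxB hy.1
  have hex : ∀ x : X, ∃ A : G, x ∈ st A := by
    intro x
    obtain ⟨B₀, hB₀, hxB₀⟩ := mem_sUnion.mp (hcov.le (mem_univ x))
    obtain ⟨A, ⟨hA, hxA⟩, hmin⟩ :=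
      (hGf.subset (sep_subset G fun A => x ∈ A)).exists_minimal ⟨B₀, hH₀ hB₀, hxB₀⟩
    refine ⟨⟨A, hA⟩, hxA, fun h => ?_⟩
    obtain ⟨B, hB, hxB⟩ := mem_iUnion₂.mp h
    exact hB.2.2 (subset_antisymm hB.2.1 (hmin ⟨hB.1, hxB⟩ hB.2.1))
  refine ⟨Fintype.card G, fun i => st (e.symm i),
    fun i => (hGi _ (e.symm i).2).2.isLocallyClosed.inter (hsmall _).isOpen_compl.isLocallyClosed,
    eq_univ_of_forall fun x => ?_,
    fun i j hij => Set.disjoint_left.mpr fun x hi hj => hij (e.symm.injective (Subtype.ext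
      (subset_antisymm (hkey _ x hi _ (e.symm j).2 hj.1) (hkey _ x hj _ (e.symm i).2 hi.1)))),
    fun i j ⟨x, hxi, hxj⟩ => ?_, fun i k ⟨x, hxi, hxk⟩ y hy => ?_⟩
  · obtain ⟨A, hA⟩ := hex x
    exact mem_iUnion.mpr ⟨e A, by simpa using hA⟩
  · have hj : st (e.symm j) ⊆ (e.symm j).1 := sdiff_subset
    have hcl : closure (st (e.symm j)) = (e.symm j).1 := by
      refine subset_antisymm (closure_minimal hj (hGi _ (e.symm j).2).2) ?_
      refine subset_closure_inter_of_isPreirreducible_of_isOpen (hGi _ (e.symm j).2).1.2 (hsmall _).isOpen_compl ?_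
      by_contra hne
      rw [not_nonempty_iff_eq_empty] at hne
      have h0 : closure (st (e.symm j)) = ∅ := by
        rw [show st (e.symm j) = ∅ from hne, closure_empty]
      exact (Set.eq_empty_iff_forall_notMem.mp h0) x hxj
    rw [hcl] at hxj ⊢
    exact sdiff_subset.trans (hkey _ x hxi _ (e.symm j).2 hxj)
  · obtain ⟨H₁, h₁, e₁⟩ := hGF (closure (P k)) (Or.inl ⟨k, rfl⟩)
    obtain ⟨H₂, h₂, e₂⟩ := hGF (closure (P k) \ P k) (Or.inr ⟨k, rfl⟩)
    obtain ⟨B, hB, hxB⟩ := mem_sUnion.mp (e₁.le (subset_closure hxk))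
    have hy1 : y ∈ closure (P k) := e₁.ge (mem_sUnion.mpr ⟨B, hB, hmem _ x y hxi hy B (h₁ hB) hxB⟩)
    by_contra hyk
    obtain ⟨B', hB', hyB'⟩ := mem_sUnion.mp (e₂.le ⟨hy1, hyk⟩)
    exact (e₂.ge (mem_sUnion.mpr ⟨B', hB', hmem _ y x hy hxi B' (h₂ hB') hyB'⟩)).2 hxk

/-- Quotients of sober spaces by finite generalizing equivalences are Kolmogorov. -/
theorem t0Space_quotient {R U Q : Type u} [TopologicalSpace R] [TopologicalSpace U] [TopologicalSpace Q]
    [T0Space U] (s t : R → U) (π : U → Q) (ht : Continuous t)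
    (hπ : Continuous π) (hπo : IsOpenMap π) (hsf : ∀ u, (s ⁻¹' {u}).Finite) (hsg : GeneralizingMap s)
    (hE : Equivalence fun u u' : U => ∃ r, t r = u ∧ s r = u') (hπs : Function.Surjective π)
    (hπq : ∀ u u' : U, π u = π u' ↔ ∃ r, t r = u ∧ s r = u') : T0Space Q := by
  classical
  have hcls : ∀ q : Q, (π ⁻¹' {q}).Finite := by
    intro q
    obtain ⟨u₀, rfl⟩ := hπs q
    refine ((hsf u₀).image t).subset fun v hv => ?_
    obtain ⟨r, hr1, hr2⟩ := (hπq v u₀).mp hv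
    exact ⟨r, hr2, hr1⟩
  have hlift : ∀ (a b : U), Inseparable (π a) (π b) → ∃ w, π w = π b ∧ w ⤳ a := by
    intro a b h
    have hcl : a ∈ closure (π ⁻¹' {π b}) := by
      rw [mem_closure_iff]
      intro W hW haW
      obtain ⟨w, hw, hwb⟩ := (inseparable_iff_forall_isOpen.mp h _ (hπo W hW)).mp ⟨a, haW, rfl⟩
      exact ⟨w, hw, hwb⟩
    rw [← biUnion_of_singleton (π ⁻¹' {π b}), (hcls (π b)).closure_biUnion] at hcl
    obtain ⟨w, hw, haw⟩ := mem_iUnion₂.mp hcl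
    exact ⟨w, hw, specializes_iff_mem_closure.mpr haw⟩
  refine ⟨fun x x' h => ?_⟩
  obtain ⟨u', rfl⟩ := hπs x'
  -- a most generic point of the class over `x`
  obtain ⟨u₁, rfl⟩ := hπs x
  obtain ⟨u, hu, hmax⟩ := (hcls (π u₁)).exists_maximalFor (fun v => {w ∈ π ⁻¹' {π u₁} | v ⤳ w}.ncard) _ ⟨u₁, rfl⟩
  have hu' : π u = π u₁ := hu
  rw [← hu'] at h ⊢
  have hgen : ∀ v, π v = π u → v ⤳ u → v = u := by
    intro v hv hvu
    by_contra hne
    have hv' : v ∈ π ⁻¹' {π u₁} := hv.trans hu'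
    have hss : {w ∈ π ⁻¹' {π u₁} | u ⤳ w} ⊂ {w ∈ π ⁻¹' {π u₁} | v ⤳ w} := by
      refine ⟨fun w hw => ⟨hw.1, hvu.trans hw.2⟩, fun hle => hne ?_⟩
      exact (hvu.antisymm (hle ⟨hv', specializes_rfl⟩).2).eq
    have hlt := ncard_lt_ncard hss ((hcls (π u₁)).subset (sep_subset _ _))
    exact absurd (hmax hv' hlt.le) (not_le.mpr hlt)
  -- `v` in the class of `u'` generalizes `u`; `w` in the class of `u` generalizes `u'`
  obtain ⟨v, hv, hvu⟩ := hlift u u' h
  obtain ⟨w, hw, hwu'⟩ := hlift u' u h.symm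
  obtain ⟨r, hr1, hr2⟩ := (hπq v u').mp hv
  obtain ⟨r', hr', hr's⟩ := hsg (hr2.symm ▸ hwu' : w ⤳ s r)
  have h1 : t r' ⤳ u := ((hr'.map ht).trans (hr1 ▸ specializes_rfl)).trans hvu
  have h2 : π (t r') = π u := ((hπq (t r') (s r')).mpr ⟨r', rfl, rfl⟩).trans (hr's ▸ hw)
  have h3 : t r' = u := hgen _ h2 h1
  have h4 : u ⤳ v := by
    rw [← h3, ← hr1]
    exact hr'.map ht
  rw [(h4.antisymm hvu).eq, hv]

open CategoryTheory in
/-- Opens of a cofiltered limit of spaces. -/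
theorem limit_opens {J : Type u} [SmallCategory J] [IsCofiltered J] (F : J ⥤ TopCat.{u}) (c : Limits.Cone F)
    (hc : Limits.IsLimit c) :
    (∀ W : Set c.pt, IsOpen W → ∃ S : Set (Σ j, Set (F.obj j)), (∀ s ∈ S, IsOpen s.2) ∧
        W = ⋃ s ∈ S, c.π.app s.1 ⁻¹' s.2) ∧
      (∀ W : Set c.pt, IsOpen W → IsCompact W → ∃ (i : J) (Ui : Set (F.obj i)), IsOpen Ui ∧
        W = c.π.app i ⁻¹' Ui) := by
  classical
  have hb := TopCat.isTopologicalBasis_cofiltered_limit F c hc (fun j => {U | IsOpen U})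
    (fun j => isTopologicalBasis_opens) (fun i => isOpen_univ) (fun i U1 U2 h1 h2 => h1.inter h2)
    (fun i j f V hV => hV.preimage (F.map f).hom.continuous)
  have key : ∀ W : Set c.pt, IsOpen W → W = ⋃ s ∈ {s : Σ j, Set (F.obj j) | IsOpen s.2 ∧ c.π.app s.1 ⁻¹' s.2 ⊆ W},
      c.π.app s.1 ⁻¹' s.2 := by
    intro W hW
    refine subset_antisymm (fun x hx => ?_) (iUnion₂_subset fun s hs => hs.2)
    obtain ⟨_, ⟨j, V, hV, rfl⟩, hxV, hVW⟩ := hb.exists_subset_of_mem_open hx hW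
    exact mem_iUnion₂.mpr ⟨⟨j, V⟩, ⟨hV, hVW⟩, hxV⟩
  refine ⟨fun W hW => ⟨_, fun s hs => hs.1, key W hW⟩, fun W hW hWc => ?_⟩
  obtain ⟨t, ht⟩ := hWc.elim_finite_subcover
    (fun s : {s : Σ j, Set (F.obj j) | IsOpen s.2 ∧ c.π.app s.1 ⁻¹' s.2 ⊆ W} => c.π.app s.1.1 ⁻¹' s.1.2)
    (fun s => s.2.1.preimage (c.π.app _).hom.continuous) (fun x hx => by
      obtain ⟨s, hs, hxs⟩ := mem_iUnion₂.mp ((key W hW).le hx)
      exact mem_iUnion.mpr ⟨⟨s, hs⟩, hxs⟩)
  obtain ⟨i, hi⟩ := IsCofiltered.inf_objs_exists (t.image fun s => s.1.1)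
  have f : ∀ s : t, i ⟶ s.1.1.1 := fun s => (hi (Finset.mem_image_of_mem (fun s => s.1.1) s.2)).some
  refine ⟨i, ⋃ s : t, F.map (f s) ⁻¹' s.1.1.2,
    isOpen_iUnion fun s => s.1.2.1.preimage (F.map (f s)).hom.continuous, ?_⟩
  rw [preimage_iUnion]
  have e : ∀ s : t, c.π.app i ⁻¹' (F.map (f s) ⁻¹' s.1.1.2) = c.π.app s.1.1.1 ⁻¹' s.1.1.2 := fun s => by
    rw [← preimage_comp, ← c.w (f s)]
    rfl
  simp only [e]
  refine subset_antisymm (fun x hx => ?_) (iUnion_subset fun s => s.1.2.2)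
  obtain ⟨s, hs, hxs⟩ := mem_iUnion₂.mp (ht hx)
  exact mem_iUnion.mpr ⟨⟨s, hs⟩, hxs⟩

end PtTopLib
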