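import Mathlib.Topology.Category.TopCommRingCat
import Mathlib.Topology.Category.TopCat.Limits.Basic
import Mathlib.Algebra.Category.Ring.Limits
import Mathlib.Topology.Algebra.Constructions
import Mathlib.Topology.Algebra.Group.Basic
import Mathlib.Topology.Algebra.Group.GroupTopology
import Mathlib.Topology.Algebra.Monoid

/-!
# Limits of topological rings
-/

set_option autoImplicit false
universe u

open CategoryTheory CategoryTheory.Limits

namespace PtTopLib

theorem limit_topCommRing {J : Type u} [Category.{u} J] (F : J ⥤ TopCommRingCat.{u}) :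
    HasLimit F ∧ PreservesLimit F (forget₂ TopCommRingCat.{u} TopCat.{u}) ∧
      PreservesLimit F (forget₂ TopCommRingCat.{u} CommRingCat.{u}) := by
  let G := F ⋙ forget₂ TopCommRingCat.{u} CommRingCat.{u}
  let c := limit.cone G
  let hc : IsLimit c := limit.isLimit G
  let R : Type u := c.pt
  let π : ∀ j, R →+* F.obj j := fun j => (c.π.app j).hom
  let τ : TopologicalSpace R := ⨅ j, TopologicalSpace.induced (π j) (F.obj j).isTopologicalSpace
  have hring : @IsTopologicalRing R τ _ := by
    have h1 : ∀ j, @ContinuousAdd R (TopologicalSpace.induced (π j) (F.obj j).isTopologicalSpace) _ := fun j => continuousAdd_induced (π j)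
    have h2 : ∀ j, @ContinuousMul R (TopologicalSpace.induced (π j) (F.obj j).isTopologicalSpace) _ := fun j => continuousMul_induced (π j)
    have h3 : ∀ j, @ContinuousNeg R (TopologicalSpace.induced (π j) (F.obj j).isTopologicalSpace) _ := fun j =>
      letI := TopologicalSpace.induced (π j) (F.obj j).isTopologicalSpace
      Topology.IsInducing.continuousNeg ⟨rfl⟩ (fun x => map_neg (π j) x)
    letI : TopologicalSpace R := τ
    haveI : ContinuousAdd R := continuousAdd_iInf h1
    haveI : ContinuousMul R := continuousMul_iInf h2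
    haveI : ContinuousNeg R := continuousNeg_iInf h3
    exact { }
  let P : TopCommRingCat.{u} := @TopCommRingCat.of R _ τ hring
  have hπ : ∀ j, @Continuous _ _ τ (F.obj j).isTopologicalSpace (π j) := fun j =>
    continuous_iInf_dom continuous_induced_dom
  let C : Cone F :=
    { pt := P
      π := { app := fun j => ⟨π j, hπ j⟩
             naturality := fun j j' f => by
               apply Subtype.ext
               exact (congrArg CommRingCat.Hom.hom (c.π.naturality f)).trans rfl } }
  let sc : Cone F → Cone G := fun s => (forget₂ TopCommRingCat.{u} CommRingCat.{u}).mapCone s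
  have hd : ∀ s : Cone F, @Continuous s.pt R s.pt.isTopologicalSpace τ (hc.lift (sc s)).hom := fun s => by
    refine continuous_iInf_rng.2 fun j => continuous_induced_rng.2 ?_
    have e : (π j : R → F.obj j) ∘ (hc.lift (sc s)).hom = (s.π.app j).val := by
      funext x
      exact congrArg (fun h => h.hom x) (hc.fac (sc s) j)
    exact e ▸ (s.π.app j).2
  let hC : IsLimit C :=
    { lift := fun s => ⟨(hc.lift (sc s)).hom, hd s⟩
      fac := fun s j => Subtype.ext (congrArg CommRingCat.Hom.hom (hc.fac (sc s) j))
      uniq := fun s m hm => Subtype.ext (congrArg CommRingCat.Hom.hom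
        (hc.uniq (sc s) (CommRingCat.ofHom m.val) fun j => by
          ext x
          exact congrArg (fun h => h.val x) (hm j))) }
  refine ⟨⟨⟨C, hC⟩⟩, preservesLimit_of_preserves_limit_cone hC ?_,
    preservesLimit_of_preserves_limit_cone hC
      (IsLimit.ofIsoLimit hc (Cone.ext (Iso.refl _) fun j => by ext x; rfl))⟩
  refine ((TopCat.nonempty_isLimit_iff_eq_induced ((forget₂ TopCommRingCat.{u} TopCat.{u}).mapCone C)
    (IsLimit.ofIsoLimit (isLimitOfPreserves (forget CommRingCat.{u}) hc)
      (Cone.ext (Iso.refl _) fun j => rfl))).mpr rfl).some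

theorem hasLimits_topCommRing :
    HasLimits TopCommRingCat.{u} ∧ PreservesLimits (forget₂ TopCommRingCat.{u} TopCat.{u}) ∧
      PreservesLimits (forget₂ TopCommRingCat.{u} CommRingCat.{u}) :=
  ⟨⟨fun J _ => ⟨fun F => (limit_topCommRing F).1⟩⟩,
    ⟨fun {J} _ => ⟨fun {F} => (limit_topCommRing F).2.1⟩⟩,
    ⟨fun {J} _ => ⟨fun {F} => (limit_topCommRing F).2.2⟩⟩⟩

end PtTopLib
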